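import Groth.Agent.ProjLib.Descent
import Groth.Agent.DRingLib.Basic
import Groth.Agent.ModEtQcLib.Descent
import Groth.Agent.DerLib.Ghost

/-!
# Module algebra for perfect objects over an affine base
-/

set_option autoImplicit false
set_option linter.unusedSectionVars false
set_option linter.style.haveILetI false
set_option backward.isDefEq.respectTransparency false
set_option backward.isDefEq.respectTransparency.types false
set_option maxHeartbeats 1000000
set_option synthInstance.maxHeartbeats 200000

universe v u' u

open CategoryTheory CategoryTheory.Limits HomologicalComplex Pretriangulated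
open CochainComplex (mappingCone)
open scoped TensorProduct
open DerivedCategory.TStructure (t)

noncomputable section

attribute [local instance] HasDerivedCategory.standard

namespace Groth.Agent.AlgSpPerfLib

section Abelian

variable {A : Type u'} [Category.{v} A] [Abelian A]

theorem epi_of_isZero_cokernel_cofork {X Y : A} {f : X ⟶ Y} {c : CokernelCofork f} (hc : IsColimit c)
    (h : IsZero c.pt) : Epi f :=
  Preadditive.epi_of_cancel_zero f fun {Z} g hg => by
    obtain ⟨l, hl⟩ := CokernelCofork.IsColimit.desc' hc g hg
    rw [← hl, h.eq_of_src l 0, comp_zero]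

theorem projective_of_iso {P Q : A} (e : P ≅ Q) (h : Projective P) : Projective Q :=
  Projective.of_iso e h

/-- In a bounded above exact complex of projectives all the cycles are projective. -/
theorem projective_cycles_of_acyclic (K : CochainComplex A ℤ) (b : ℤ) (hb : ∀ i, b < i → IsZero (K.X i))
    (hP : ∀ i, Projective (K.X i)) (hK : K.Acyclic) (i : ℤ) : Projective (K.cycles i) := by
  suffices H : ∀ (n : ℕ) (i : ℤ), b + 1 ≤ i + n → Projective (K.cycles i) from H (b + 1 - i).toNat i (by omega)
  intro n
  induction n with
  | zero =>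
    intro i hi
    exact ((hb i (by omega)).of_mono (K.iCycles i)).projective
  | succ n ih =>
    intro i hi
    haveI := ih (i + 1) (by omega)
    haveI hepi : Epi (K.toCycles i (i + 1)) := by
      have hz : IsZero (K.homology (i + 1)) := (exactAt_iff_isZero_homology _ _).1 (hK _)
      exact epi_of_isZero_cokernel_cofork (K.homologyIsCokernel i (i + 1) (by simp)) hz
    let T : ShortComplex A := ShortComplex.mk (K.iCycles i) (K.toCycles i (i + 1)) (by
      rw [← cancel_mono (K.iCycles (i + 1)), Category.assoc, K.toCycles_i, zero_comp, K.iCycles_d])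
    have hT : T.ShortExact := by
      refine ShortComplex.ShortExact.mk' ?_ inferInstance hepi
      refine ShortComplex.exact_of_f_is_kernel _ (KernelFork.IsLimit.ofι' (K.iCycles i) T.zero fun {W} k hk => ?_)
      have hk' : k ≫ K.d i (i + 1) = 0 := by
        rw [← K.toCycles_i, ← Category.assoc]
        exact (congrArg (· ≫ K.iCycles (i + 1)) hk).trans zero_comp
      exact ⟨K.liftCycles k (i + 1) (by simp) hk', K.liftCycles_i _ _ _ _⟩
    haveI : Projective T.X₃ := ‹_›
    let sp := hT.splittingOfProjective
    haveI : Projective T.X₂ := hP i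
    exact ({ i := T.f, r := sp.r, retract := sp.f_r } : Retract T.X₁ T.X₂).projective

/-- A differential of a bounded above exact complex of projectives has projective cokernel. -/
theorem projective_cokernel_of_acyclic (K : CochainComplex A ℤ) (b : ℤ) (hb : ∀ i, b < i → IsZero (K.X i))
    (hP : ∀ i, Projective (K.X i)) (hK : K.Acyclic) (i j k : ℤ) (hij : i + 1 = j) (hjk : j + 1 = k) :
    Projective (cokernel (K.d i j)) := by
  haveI := projective_cycles_of_acyclic K b hb hP hK k
  have hk : Epi (K.toCycles j k) := by
    have hz : IsZero (K.homology k) := (exactAt_iff_isZero_homology _ _).1 (hK _)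
    exact epi_of_isZero_cokernel_cofork (K.homologyIsCokernel j k (by simp; omega)) hz
  let T : ShortComplex A := ShortComplex.mk (K.d i j) (K.toCycles j k) (K.d_toCycles _ _ _)
  haveI : Epi T.g := hk
  have hT : T.Exact := by
    have h := (exactAt_iff' K i j k (by simp; omega) (by simp; omega)).1 (hK j)
    rw [ShortComplex.exact_iff_exact_up_to_refinements] at h ⊢
    intro W x hx
    exact h x (by
      change x ≫ K.d j k = 0
      rw [← K.toCycles_i, ← Category.assoc]
      exact (congrArg (· ≫ K.iCycles k) hx).trans zero_comp)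
  exact projective_of_iso (hT.gIsCokernel.coconePointUniqueUpToIso (colimit.isColimit _)) ‹_›

/-- If a bounded above complex of projectives maps quasi-isomorphically to a complex of projectives living in degrees
at least `c`, its low differentials have projective cokernels. -/
theorem projective_cokernel_of_quasiIso {P Q : CochainComplex A ℤ} (β : Q ⟶ P) [QuasiIso β] (b c : ℤ)
    (hQb : ∀ i, b < i → IsZero (Q.X i)) (hPb : ∀ i, b < i → IsZero (P.X i))
    (hPc : ∀ i, i < c → IsZero (P.X i))
    (hQ : ∀ i, Projective (Q.X i)) (hP : ∀ i, Projective (P.X i)) (i : ℤ) (hi : i + 2 ≤ c) :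
    Projective (cokernel (Q.d i (i + 1))) := by
  have hK : (mappingCone β).Acyclic := by
    rw [← HomotopyCategory.quotient_obj_mem_subcategoryAcyclic_iff_acyclic]
    refine ((HomotopyCategory.subcategoryAcyclic A).trW_iff_of_distinguished _
      (HomotopyCategory.mappingCone_triangleh_distinguished β)).1 ?_
    rw [← HomotopyCategory.quasiIso_eq_trW_subcategoryAcyclic]
    exact (HomotopyCategory.quotient_map_mem_quasiIso_iff β).2 ((HomologicalComplex.mem_quasiIso_iff _).2 ‹_›)
  have hbi : ∀ p, (mappingCone β).X p ≅ Q.X (p + 1) ⊞ P.X p := fun p =>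
    HomologicalComplex.homotopyCofiber.XIsoBiprod β p (p + 1) (by simp)
  have hb' : ∀ p, b < p → IsZero ((mappingCone β).X p) := fun p hp =>
    IsZero.of_iso ((IsZero.iff_id_eq_zero _).2 (biprod.hom_ext _ _ ((hQb _ (by omega)).eq_of_tgt _ _)
      ((hPb _ hp).eq_of_tgt _ _))) (hbi p)
  have hP' : ∀ p, Projective ((mappingCone β).X p) := fun p => by
    haveI := hQ (p + 1)
    haveI := hP p
    exact projective_of_iso (hbi p).symm inferInstance
  have h := projective_cokernel_of_acyclic (mappingCone β) b hb' hP' hK (i - 1) i (i + 1) (by omega) rfl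
  let φ : ∀ p q : ℤ, p + 1 = q → ((mappingCone β).X p ⟶ Q.X q) := fun p q hpq =>
    (CochainComplex.mappingCone.fst β).1.v p q hpq
  have hiso : ∀ (p q : ℤ) (hpq : p + 1 = q), p < c → IsIso (φ p q hpq) := fun p q hpq hp =>
    ⟨(CochainComplex.mappingCone.inl β).v q p (by omega),
      CochainComplex.mappingCone.ext_to β p q hpq (by simp [φ]) ((hPc p hp).eq_of_tgt _ _),
      CochainComplex.mappingCone.inl_v_fst_v _ _ _ _⟩
  have hii : i - 1 + 1 = i := by omega
  haveI := hiso (i - 1) i hii (by omega)
  haveI := hiso i (i + 1) rfl (by omega)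
  have hneg : IsIso (-φ (i - 1) i hii) := by
    exact ⟨-inv (φ (i - 1) i hii), by simp⟩
  have hd : φ (i - 1) i hii ≫ Q.d i (i + 1) = -((mappingCone β).d (i - 1) i ≫ φ i (i + 1) rfl) := by
    rw [CochainComplex.mappingCone.d_fst_v β (i - 1) i (i + 1) hii rfl, neg_neg]
  haveI := hneg
  refine projective_of_iso (cokernel.mapIso ((mappingCone β).d (i - 1) i) (Q.d i (i + 1))
    (asIso (-φ (i - 1) i hii)) (asIso (φ i (i + 1) rfl)) ?_) h
  rw [asIso_hom, asIso_hom, Preadditive.neg_comp, hd]
  try simp

end Abelian

section Family

/-- A finite product of projective modules is projective over the product of the rings. -/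
theorem projective_pi {κ : Type} [Fintype κ] (B : κ → Type (u + 1)) [∀ k, CommRing (B k)] (N : κ → Type (u + 1))
    [∀ k, AddCommGroup (N k)] [∀ k, Module (B k) (N k)] (h : ∀ k, Module.Projective (B k) (N k)) :
    Module.Projective (∀ k, B k) (∀ k, N k) := by
  classical
  let P := ∀ k, N k
  have hπ : ∀ k, Function.Surjective (Finsupp.linearCombination (B k) (fun p : P => p k)) := fun k x =>
    ⟨Finsupp.single (Pi.single k x) 1, by simp⟩
  choose s hs using fun k => (Finsupp.linearCombination (B k) (fun p : P => p k)).exists_rightInverse_of_surjective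
    (LinearMap.range_eq_top.2 (hπ k))
  let S : P →ₗ[∀ k, B k] (P →₀ ∀ k, B k) :=
    { toFun := fun p => Finsupp.onFinset (Finset.univ.biUnion fun k => (s k (p k)).support) (fun i k => s k (p k) i)
        fun i hi => by
          obtain ⟨k, hk⟩ := Function.ne_iff.1 hi
          exact Finset.mem_biUnion.2 ⟨k, Finset.mem_univ _, Finsupp.mem_support_iff.2 hk⟩
      map_add' := fun p q => Finsupp.ext fun i => funext fun k =>
        (congrArg (fun z => z i) (map_add (s k) (p k) (q k))).trans (Finsupp.add_apply _ _ _)
      map_smul' := fun r p => Finsupp.ext fun i => funext fun k =>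
        (congrArg (fun z => z i) (map_smul (s k) (r k) (p k))).trans (Finsupp.smul_apply _ _ _) }
  refine Module.Projective.of_split S (Finsupp.linearCombination (∀ k, B k) (id : P → P)) (LinearMap.ext fun p => funext fun k => ?_)
  have h1 := LinearMap.congr_fun (hs k) (p k)
  simp only [LinearMap.comp_apply, LinearMap.id_apply] at h1 ⊢
  rw [Finsupp.linearCombination_apply] at h1
  have hsub : (s k (p k)).support ⊆ Finset.univ.biUnion fun k => (s k (p k)).support :=
    fun i hi => Finset.mem_biUnion.2 ⟨k, Finset.mem_univ _, hi⟩
  rw [Finsupp.sum_of_support_subset _ hsub (fun i b => b • i k) (fun _ _ => zero_smul _ _)] at h1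
  have hS : (S p).support ⊆ Finset.univ.biUnion fun k => (s k (p k)).support := fun i hi => by
    obtain ⟨j, hj⟩ := Function.ne_iff.1 (Finsupp.mem_support_iff.1 hi)
    exact Finset.mem_biUnion.2 ⟨j, Finset.mem_univ _, Finsupp.mem_support_iff.2 hj⟩
  rw [Finsupp.linearCombination_apply, Finsupp.sum_of_support_subset (S p) hS (fun i b => b • id i) (fun _ _ => zero_smul _ _), Finset.sum_apply]
  exact h1

variable {A : Type (u + 1)} [CommRing A] {κ : Type} [Fintype κ] (B : κ → Type (u + 1))
  [∀ k, CommRing (B k)] [∀ k, Algebra A (B k)]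

/-- Projectivity descends along a finite faithful family of flat algebras. -/
theorem projective_of_family [∀ k, Module.Flat A (B k)] (hB : ModEtQc.FaithfulFamily.{u + 1} A B)
    (M : Type (u + 1)) [AddCommGroup M] [Module A M]
    (hM : ∀ k, Module.Projective (B k) (B k ⊗[A] M)) : Module.Projective A M := by
  classical
  let R := ∀ k, B k
  haveI : Module.Flat A R :=
    Module.Flat.of_linearEquiv (DirectSum.linearEquivFunOnFintype A κ B).symm
  haveI : Module.FaithfullyFlat A R := by
    rw [Module.FaithfullyFlat.iff_flat_and_lTensor_reflects_triviality]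
    refine ⟨inferInstance, fun N _ _ hN => ⟨fun a b => sub_eq_zero.1 (hB N (a - b) fun k => ?_)⟩⟩
    have h := congrArg ((LinearMap.proj k : R →ₗ[A] B k).rTensor N)
      (Subsingleton.elim ((1 : R) ⊗ₜ[A] (a - b)) 0)
    rw [map_zero, LinearMap.rTensor_tmul] at h
    exact h
  let e : R ⊗[A] M →ₗ[R] (∀ k, B k ⊗[A] M) := LinearMap.liftBaseChange R
    { toFun := fun m k => (1 : B k) ⊗ₜ[A] m
      map_add' := fun m m' => funext fun k => TensorProduct.tmul_add _ _ _
      map_smul' := fun a m => funext fun k => TensorProduct.tmul_smul a _ _ }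
  have hpl : ∀ x, e x = TensorProduct.piLeft (R := A) (N := M) (M := B) x := fun x => by
    induction x using TensorProduct.induction_on with
    | zero => rw [map_zero, map_zero]
    | tmul r m =>
      refine funext fun k => ?_
      rw [LinearMap.liftBaseChange_tmul]
      simp
      exact (TensorProduct.smul_tmul' (r k) (1 : B k) m).trans (by rw [smul_eq_mul, mul_one])
    | add x y hx hy => rw [map_add, map_add, hx, hy]
  have hbij : Function.Bijective e := by
    rw [show (e : R ⊗[A] M → _) = TensorProduct.piLeft (R := A) (N := M) (M := B) from funext hpl]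
    exact (TensorProduct.piLeft (R := A) (N := M) (M := B)).bijective
  haveI := projective_pi B (fun k => B k ⊗[A] M) hM
  haveI : Module.Projective R (R ⊗[A] M) := Module.Projective.of_equiv (LinearEquiv.ofBijective e hbij).symm
  exact ProjLib.projective_of_faithfullyFlat A M R

end Family

section Hom

variable {R : Type u} [CommRing R]

/-- A map from a bounded complex of projective modules to a complex exact in that range vanishes in the derived category. -/
theorem Q_map_eq_zero_of_projective {P G : CochainComplex (ModuleCat.{u} R) ℤ} (m b : ℤ)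
    (hb : ∀ i, b < i → IsZero (P.X i)) (hm : ∀ i, i < m → IsZero (P.X i))
    (hP : ∀ i, Module.Projective R (P.X i)) (hG : ∀ i, m ≤ i → i ≤ b → IsZero (G.homology i))
    (f : P ⟶ G) : DerivedCategory.Q.map f = 0 := by
  haveI := DRingLib.isKProjective_of_projective P b hb hP
  let g := DerivedCategory.Q.map f
  haveI : P.IsStrictlyLE b := by rw [CochainComplex.isStrictlyLE_iff]; exact hb
  haveI : ((t.truncGE m).obj (DerivedCategory.Q.obj G)).IsGE (b + 1) := by
    rw [DerivedCategory.isGE_iff]
    intro i hi
    by_cases him : i < m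
    · exact DerivedCategory.isZero_of_isGE _ m i him
    · haveI := DerLib.Ghost.isIso_homologyMap_truncGEπ (DerivedCategory.Q.obj G) m i (by omega)
      exact ((hG i (by omega) (by omega)).of_iso
        ((DerivedCategory.homologyFunctorFactors _ i).app G)).of_iso
          (asIso ((DerivedCategory.homologyFunctor _ i).map ((t.truncGEπ m).app (DerivedCategory.Q.obj G)))).symm
  haveI : (DerivedCategory.Q.obj P).IsLE b := inferInstance
  have h0 : g ≫ (t.truncGEπ m).app _ = 0 :=
    DerivedCategory.TStructure.t.zero_of_isLE_of_isGE _ b (b + 1) (by omega) ‹_› ‹_›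
  obtain ⟨g', hg'⟩ := Triangle.coyoneda_exact₂ _ (t.triangleLTGE_distinguished m (DerivedCategory.Q.obj G)) g h0
  haveI : ((t.truncLT m).obj (DerivedCategory.Q.obj G)).IsLE (m - 1) :=
    t.isLE_truncLT_obj _ m (m - 1) (by omega)
  obtain ⟨L, hL, ⟨e⟩⟩ := DerivedCategory.exists_iso_Q_obj_of_isLE ((t.truncLT m).obj (DerivedCategory.Q.obj G)) (m - 1)
  obtain ⟨l, hl⟩ := DRingLib.Q_map_surjective P L (g' ≫ e.hom)
  have : l = 0 := by
    ext i : 1
    by_cases hi : i < m
    · exact (hm i hi).eq_of_src _ _
    · exact (L.isZero_of_isStrictlyLE (m - 1) i (by omega)).eq_of_tgt _ _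
  have hz : g' = 0 := by
    rw [← cancel_mono e.hom, zero_comp, ← hl, this, Functor.map_zero]
  change g = 0
  rw [hg', hz, zero_comp]

end Hom

end Groth.Agent.AlgSpPerfLib
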