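import Groth.Agent.AlgSpPerfLib.Model
import Groth.Agent.ModEtQcLib.Coherent
import Groth.Agent.AlgSpCohColimLib.Nerve
import Groth.Agent.DRingLib.PCohMore
import Groth.Agent.AlgSpRlimLib.Kernel

/-!
# Finite cohomology and pseudo-coherence on affine objects over a Noetherian space
-/

set_option autoImplicit false
set_option linter.unusedSectionVars false
set_option linter.style.haveILetI false
set_option backward.isDefEq.respectTransparency false
set_option backward.isDefEq.respectTransparency.types false
set_option maxHeartbeats 2000000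
set_option synthInstance.maxHeartbeats 200000

universe u

open CategoryTheory CategoryTheory.Limits AlgebraicGeometry Opposite AlgSp HomologicalComplex

noncomputable section

attribute [local instance] HasDerivedCategory.standard

namespace Groth.Agent.AlgSpPerfLib

open ModEtQc

variable {S : Scheme.{u}} {X : Sp S} {E : EtOver X} [IsAffine E.obj.left.left]

theorem epi_of_epi_gamma {G G' : ModEtOn E} (h : IsTilde G) (h' : IsTilde G') (f : G ⟶ G')
    [Epi ((Γt E).map f)] : Epi f := by
  haveI := isIso_counit_of_isTilde h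
  haveI := isIso_counit_of_isTilde h'
  haveI : (tildeF E).IsLeftAdjoint := (tildeAdj E).isLeftAdjoint
  have e : (tildeAdj E).counit.app G ≫ f = (tildeF E).map ((Γt E).map f) ≫ (tildeAdj E).counit.app G' :=
    ((tildeAdj E).counit.naturality f).symm
  haveI : Epi ((tildeAdj E).counit.app G ≫ f) := by rw [e]; infer_instance
  exact epi_of_epi ((tildeAdj E).counit.app G) f

theorem epi_gamma_homologyMap {K L : CochainComplex (ModEtOn E) ℤ} (f : K ⟶ L) (m : ℤ) (hK : FExact (Γt E) K m)
    (hL : FExact (Γt E) L m) [Epi (homologyMap ((mapC (Γt E)).map f) m)] : Epi ((Γt E).map (homologyMap f m)) := by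
  let F := Γt E
  obtain ⟨eK, hK'⟩ := exists_homologyIso F K m hK
  obtain ⟨eL, hL'⟩ := exists_homologyIso F L m hL
  have key : F.map (homologyMap f m) ≫ eL.hom = eK.hom ≫ homologyMap ((mapC F).map f) m := by
    haveI := hK.epi
    rw [← cancel_epi (F.map (K.homologyπ m)), ← F.map_comp_assoc, homologyπ_naturality, F.map_comp, Category.assoc,
      hL', ← Category.assoc, cyc_natural, Category.assoc, ← homologyπ_naturality, ← Category.assoc, ← hK',
      Category.assoc]
  have h1 : F.map (homologyMap f m) = (eK.hom ≫ homologyMap ((mapC F).map f) m) ≫ eL.inv := by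
    rw [← key, Category.assoc, Iso.hom_inv_id, Category.comp_id]
  rw [h1]
  infer_instance

/-- The module associated to a finite projective module is a summand of a finite free one. -/
theorem isFinFreeSummand_tilde (N : ModuleCat.{u + 1} (Ring E)) [Module.Finite (Ring E) N] [Projective N] :
    DCoh.IsFinFreeSummandMod (OEtOn E) ((tildeF E).obj N) := by
  obtain ⟨e⟩ := isIso_tilde_ring (E₀ := E)
  obtain ⟨n, s, hs⟩ := Module.Finite.exists_fin (R := Ring E) (M := N)
  let A₁ := ModuleCat.of (Ring E) (Ring E)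
  let J := ULift.{u + 1} (Fin n)
  let p : (∐ fun _ : J => A₁) ⟶ N :=
    Sigma.desc fun j => ModuleCat.ofHom (LinearMap.toSpanSingleton (Ring E) N (s j.down))
  haveI : Epi p := by
    refine (ModuleCat.epi_iff_surjective p).2 (LinearMap.range_eq_top.1 (eq_top_iff.2 (hs.symm.le.trans ?_)))
    rw [Submodule.span_le]
    rintro _ ⟨j, rfl⟩
    refine ⟨Sigma.ι (fun _ : J => A₁) ⟨j⟩ (1 : Ring E), ?_⟩
    have := congrArg (fun q : A₁ ⟶ N => q (1 : Ring E))
      (Sigma.ι_desc (fun j => ModuleCat.ofHom (LinearMap.toSpanSingleton (Ring E) N (s j.down))) (⟨j⟩ : J))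
    exact this.trans (one_smul _ _)
  let i := PreservesCoproduct.iso (tildeF E) (fun _ : J => A₁) ≪≫ Sigma.mapIso (fun _ : J => e)
  let t := Projective.factorThru (𝟙 N) p
  refine ⟨n, (tildeF E).map t ≫ i.hom, i.inv ≫ (tildeF E).map p, ?_⟩
  rw [Category.assoc, Iso.hom_inv_id_assoc, ← Functor.map_comp, Projective.factorThru_comp, CategoryTheory.Functor.map_id]

theorem finite_gamma_summand {G : ModEtOn E} (h : DCoh.IsFinFreeSummandMod (OEtOn E) G) :
    Module.Finite (Ring E) ((Γt E).obj G) := by
  obtain ⟨n, a, b, hab⟩ := h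
  obtain ⟨e⟩ := isIso_tilde_ring (E₀ := E)
  haveI := isIso_unit (E₀ := E)
  let J := ULift.{u + 1} (Fin n)
  let F : ModuleCat.{u + 1} (Ring E) := ∐ fun _ : J => ringMod E
  haveI := finite_coprod (E₀ := E) J
  let i : F ≅ (Γt E).obj (SheafOfModules.free (R := OEtOn E) J) :=
    asIso ((tildeAdj E).unit.app F) ≪≫ (Γt E).mapIso (PreservesCoproduct.iso (tildeF E) (fun _ : J => ringMod E) ≪≫
      Sigma.mapIso (fun _ : J => e))
  haveI : Epi (i.hom ≫ (Γt E).map b) := by
    haveI : IsSplitEpi ((Γt E).map b) := ⟨⟨⟨(Γt E).map a, by rw [← Functor.map_comp, hab, CategoryTheory.Functor.map_id]⟩⟩⟩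
    infer_instance
  exact Module.Finite.of_surjective (i.hom ≫ (Γt E).map b).hom ((ModuleCat.epi_iff_surjective _).1 ‹_›)

theorem finite_gamma_homology [IsNoetherianRing (Ring E)] {P : CochainComplex (ModEtOn E) ℤ}
    (hP : ∀ i, DCoh.IsFinFreeSummandMod (OEtOn E) (P.X i)) (i : ℤ) :
    Module.Finite (Ring E) ((Γt E).obj (P.homology i)) := by
  obtain ⟨e, -⟩ := exists_homologyIso (Γt E) P i (fExact_gamma P (fun j => isTilde_summand (hP j)) i)
  haveI : Module.Finite (Ring E) (((mapC (Γt E)).obj P).X i) := finite_gamma_summand (hP i)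
  haveI := DRingLib.homology_finite_of_cycles ((mapC (Γt E)).obj P) i inferInstance
  exact Module.Finite.equiv e.symm.toLinearEquiv

theorem finite_gamma_of_epi {A B : ModEtOn E} (f : A ⟶ B) [Epi f] (hA : IsTilde A) (hB : IsTilde B)
    [Module.Finite (Ring E) ((Γt E).obj A)] : Module.Finite (Ring E) ((Γt E).obj B) := by
  haveI := epi_gamma hA hB f
  exact Module.Finite.of_surjective ((Γt E).map f).hom ((ModuleCat.epi_iff_surjective _).1 ‹_›)

variable [IsNoetherianRing (Ring E)] (C : CochainComplex (ModEt X) ℤ) [C.IsKInjective]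
  [EnoughInjectives (ModEt X)]

/-- A complex with finite bounded above cohomology receives an approximation by a strictly perfect complex. -/
theorem exists_strictlyPerfect_approx (hq : ∀ q, (C.homology q).IsQuasicoherent) (m b : ℤ)
    (hfin : ∀ i, m ≤ i → Module.Finite (Ring E) (sec (C.homology i) E))
    (hzero : ∀ i, b < i → IsZero (C.homology i)) :
    ∃ (P : CochainComplex (ModEtOn E) ℤ) (ψ : P ⟶ (mapC (resModEt E)).obj C),
      DCoh.IsStrictlyPerfectMod (OEtOn E) P ∧ (∀ j, m < j → IsIso (homologyMap ψ j)) ∧ Epi (homologyMap ψ m) := by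
  let K := (mapC (resModEt E)).obj C
  let G := (mapC (Γt E)).obj K
  have hgK : GammaGood K := gammaGood_res C hq
  have hH : ∀ i, Nonempty (G.homology i ≅ (Γt E).obj ((resModEt E).obj (C.homology i))) := fun i => by
    obtain ⟨e, -⟩ := exists_homologyIso (Γt E) K i (hgK i).1
    exact ⟨e.symm ≪≫ (Γt E).mapIso ((C.sc i).mapHomologyIso (resModEt E))⟩
  obtain ⟨F, a, c, α, hF, hFf, hiso, hepi⟩ := DRingLib.isPseudoCoherent_of_finite_noetherian
    (R := Ring E) (K := DerivedCategory.Q.obj G) (m := m) (b := b)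
    (fun i hi => (((Γt E).map_isZero ((resModEt E).map_isZero (hzero i hi))).of_iso (hH i).some).of_iso
      ((DerivedCategory.homologyFunctorFactors _ i).app G))
    (fun i hi => DRingLib.finite_Hn_Q (by
      haveI : Module.Finite (Ring E) ((Γt E).obj ((resModEt E).obj (C.homology i))) := hfin i hi
      exact Module.Finite.equiv (hH i).some.symm.toLinearEquiv))
  have hFproj : ∀ i, Module.Projective (Ring E) (F.X i) := fun i => by
    haveI := (hFf i).2
    infer_instance
  have hbd : ∀ i, c < i → IsZero (F.X i) := fun i hi => hF i (Or.inr hi)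
  haveI : F.IsKProjective := DRingLib.isKProjective_of_projective F c hbd hFproj
  obtain ⟨φ, hφ⟩ := DRingLib.Q_map_surjective F G α
  let T := (mapC (tildeF E)).obj F
  have hgT : GammaGood T := gammaGood_of_isTilde T fun j => isTilde_tilde _
  let ψ : T ⟶ K := trR (tildeAdj E) φ
  haveI := isIso_unit (E₀ := E)
  haveI : ∀ i, IsIso ((unitC (tildeAdj E) F).f i) := fun i => NatIso.isIso_app_of_isIso (tildeAdj E).unit (F.X i)
  haveI : IsIso (unitC (tildeAdj E) F) := HomologicalComplex.Hom.isIso_of_components _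
  have hfac : ∀ j, homologyMap ((mapC (Γt E)).map ψ) j = inv (homologyMap (unitC (tildeAdj E) F) j) ≫ homologyMap φ j :=
    fun j => by
      rw [IsIso.eq_inv_comp, ← homologyMap_comp,
        show unitC (tildeAdj E) F ≫ (mapC (Γt E)).map ψ = φ from trL_trR (tildeAdj E) φ]
  refine ⟨T, ψ, ⟨⟨a, c, fun i hi => (tildeF E).map_isZero (hF i hi)⟩, fun i => ?_⟩, fun j hj => ?_, ?_⟩
  · haveI := (hFf i).1
    haveI : Projective (F.X i) := (IsProjective.iff_projective (R := Ring E) (F.X i)).mp (hFproj i)
    exact isFinFreeSummand_tilde (F.X i)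
  · have h1 : IsIso (homologyMap φ j) :=
      (NatIso.isIso_map_iff (DerivedCategory.homologyFunctorFactors _ j) φ).1 (by
        change IsIso ((DerivedCategory.homologyFunctor _ j).map (DerivedCategory.Q.map φ))
        rw [hφ]
        exact hiso j hj)
    have h2 : IsIso (homologyMap ((mapC (Γt E)).map ψ) j) := by rw [hfac]; infer_instance
    haveI := (isIso_homologyMap_iff (Γt E) T j ψ (hgT j).1 (hgK j).1).1 h2
    exact isIso_of_isIso_gamma (hgT j).2 (hgK j).2 _ this
  · haveI : Epi (homologyMap φ m) := by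
      have h0 : Epi ((DerivedCategory.Q ⋙ DerivedCategory.homologyFunctor _ m).map φ) := by
        change Epi ((DerivedCategory.homologyFunctor _ m).map (DerivedCategory.Q.map φ))
        rw [hφ]
        exact hepi
      exact ((MorphismProperty.epimorphisms _).arrow_mk_iso_iff
        ((Functor.mapArrowFunctor _ _).mapIso (DerivedCategory.homologyFunctorFactors _ m) |>.app (Arrow.mk φ))).1 h0
    haveI : Epi (homologyMap ((mapC (Γt E)).map ψ) m) := by rw [hfac]; infer_instance
    haveI := epi_gamma_homologyMap ψ m (hgT m).1 (hgK m).1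
    exact epi_of_epi_gamma (hgT m).2 (hgK m).2 _

end Groth.Agent.AlgSpPerfLib
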