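import Groth.Agent.AlgSpRlimLib.ExtZero

/-!
# Copowers of presheaves of modules by presheaves of sets
-/

set_option autoImplicit false
set_option linter.unusedSectionVars false
set_option linter.style.haveILetI false
set_option backward.isDefEq.respectTransparency false
set_option backward.isDefEq.respectTransparency.types false
set_option synthInstance.maxHeartbeats 400000
set_option maxHeartbeats 1000000
universe u

open CategoryTheory Limits Opposite

noncomputable section

namespace Groth.Agent.AlgSpPerfLib.Copower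

open AlgSpRlimLib.ExtZero

variable {C : Type (u + 1)} [Category.{u} C] {A : Cᵒᵖ ⥤ RingCat.{u + 1}}

/-- One section of the copower. -/
abbrev mk {P : Cᵒᵖ ⥤ Type (u + 1)} {M : PresheafOfModules.{u + 1} A} (Z : Cᵒᵖ) (p : P.obj Z) (m : M.obj Z) :
    P.obj Z →₀ M.obj Z :=
  Finsupp.single p m

/-- The transition map. -/
def trans (P : Cᵒᵖ ⥤ Type (u + 1)) (M : PresheafOfModules.{u + 1} A) {Y Z : Cᵒᵖ} (g : Y ⟶ Z) :
    (P.obj Y →₀ M.obj Y) →ₗ[A.obj Y]
      (ModuleCat.restrictScalars (A.map g).hom).obj (ModuleCat.of (A.obj Z) (P.obj Z →₀ M.obj Z)) where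
  toFun x := Finsupp.mapDomain (M := M.obj Z) (P.map g) (Finsupp.mapRange (N := M.obj Z) (fun m : M.obj Y => M.map g m) (map_zero (M.map g).hom) x)
  map_add' x y :=
    (congrArg (Finsupp.mapDomain (M := M.obj Z) (P.map g)) (Finsupp.mapRange_add (N := M.obj Z) (f := fun m : M.obj Y => M.map g m) (hf := map_zero (M.map g).hom) (fun a b => map_add (M.map g).hom a b) x y)).trans
      Finsupp.mapDomain_add
  map_smul' (r : A.obj Y) x := by
    change Finsupp.mapDomain (M := M.obj Z) (P.map g)
        (Finsupp.mapRange (N := M.obj Z) (fun m : M.obj Y => M.map g m) (map_zero (M.map g).hom) (r • x)) =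
      (A.map g r) • Finsupp.mapDomain (M := M.obj Z) (P.map g)
        (Finsupp.mapRange (N := M.obj Z) (fun m : M.obj Y => M.map g m) (map_zero (M.map g).hom) x)
    rw [← Finsupp.mapDomain_smul]
    refine congrArg (Finsupp.mapDomain (M := M.obj Z) (P.map g)) (Finsupp.ext fun p => ?_)
    rw [Finsupp.mapRange_apply, Finsupp.smul_apply, Finsupp.smul_apply, Finsupp.mapRange_apply]
    exact PresheafOfModules.map_smul M g r (x p)

theorem trans_single (P : Cᵒᵖ ⥤ Type (u + 1)) (M : PresheafOfModules.{u + 1} A) {Y Z : Cᵒᵖ} (g : Y ⟶ Z)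
    (p : P.obj Y) (m : M.obj Y) : trans P M g (mk Y p m) = mk Z (P.map g p) (M.map g m) := by
  change Finsupp.mapDomain (M := M.obj Z) (P.map g)
    (Finsupp.mapRange (N := M.obj Z) (fun m : M.obj Y => M.map g m) (map_zero (M.map g).hom) (Finsupp.single p m)) = _
  rw [Finsupp.mapRange_single, Finsupp.mapDomain_single]

theorem hom_ext' {P : Cᵒᵖ ⥤ Type (u + 1)} {M : PresheafOfModules.{u + 1} A} {Y : Cᵒᵖ} {N : ModuleCat.{u + 1} (A.obj Y)}
    {f g : ModuleCat.of (A.obj Y) (P.obj Y →₀ M.obj Y) ⟶ N}
    (h : ∀ p m, f (mk Y p m) = g (mk Y p m)) : f = g :=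
  ModuleCat.hom_ext (LinearMap.toAddMonoidHom_injective (Finsupp.addHom_ext h))

/-- The copower. -/
def obj (P : Cᵒᵖ ⥤ Type (u + 1)) (M : PresheafOfModules.{u + 1} A) : PresheafOfModules.{u + 1} A where
  obj Y := ModuleCat.of (A.obj Y) (P.obj Y →₀ M.obj Y)
  map {Y Z} g := ModuleCat.ofHom (X := P.obj Y →₀ M.obj Y)
    (Y := ((ModuleCat.restrictScalars (A.map g).hom).obj (ModuleCat.of (A.obj Z) (P.obj Z →₀ M.obj Z)) :
      ModuleCat.{u + 1} (A.obj Y))) (trans P M g)
  map_id Y := by
    refine hom_ext' fun p m => ?_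
    refine (trans_single P M _ p m).trans ?_
    rw [P.map_id]
    exact congrArg (mk Y p) ((ConcreteCategory.congr_hom (M.map_id Y) m).trans rfl)
  map_comp {Y Z W} g h := by
    refine hom_ext' fun p m => ?_
    refine (trans_single P M _ p m).trans ?_
    refine Eq.trans ?_ (congrArg (trans P M h) (trans_single P M g p m)).symm
    refine Eq.trans ?_ (trans_single P M h _ _).symm
    rw [P.map_comp]
    exact congrArg (mk W _) (M.map_comp_apply _ _ m)

/-- Functoriality in the module. -/
def map (P : Cᵒᵖ ⥤ Type (u + 1)) {M N : PresheafOfModules.{u + 1} A} (f : M ⟶ N) : obj P M ⟶ obj P N where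
  app Y := ModuleCat.ofHom (Finsupp.mapRange.linearMap (f.app Y).hom)
  naturality {Y Z} g := by
    refine hom_ext' fun p m => ?_
    refine (congrArg (Finsupp.mapRange.linearMap (f.app Z).hom) (trans_single P M g p m)).trans ?_
    refine (Finsupp.mapRange_single (hf := map_zero _)).trans ?_
    refine Eq.trans ?_ (congrArg (trans P N g) (Finsupp.mapRange_single (hf := map_zero _))).symm
    refine Eq.trans ?_ (trans_single P N g p _).symm
    exact congrArg (mk Z _) (PresheafOfModules.naturality_apply f g m)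

theorem map_apply (P : Cᵒᵖ ⥤ Type (u + 1)) {M N : PresheafOfModules.{u + 1} A} (f : M ⟶ N) (Y : Cᵒᵖ)
    (p : P.obj Y) (m : M.obj Y) : (map P f).app Y (mk Y p m) = mk Y p (f.app Y m) :=
  Finsupp.mapRange_single (hf := map_zero _)

/-- The copower, as a functor of the module. -/
def func (P : Cᵒᵖ ⥤ Type (u + 1)) : PresheafOfModules.{u + 1} A ⥤ PresheafOfModules.{u + 1} A where
  obj := obj P
  map := map P
  map_id M := PresheafOfModules.hom_ext fun Y => hom_ext' fun p m => map_apply P (𝟙 M) Y p m
  map_comp f g := PresheafOfModules.hom_ext fun Y => hom_ext' fun p m =>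
    (map_apply P (f ≫ g) Y p m).trans ((congrArg ((map P g).app Y) (map_apply P f Y p m)).trans (map_apply P g Y p _)).symm

instance (P : Cᵒᵖ ⥤ Type (u + 1)) : (func (A := A) P).Additive where
  map_add := by
    intros M N f g
    refine PresheafOfModules.hom_ext fun Y => hom_ext' fun p m => ?_
    exact ((map_apply P (f + g) Y p m).trans (Finsupp.single_add _ _ _)).trans
      (congrArg₂ (· + ·) (map_apply P f Y p m) (map_apply P g Y p m)).symm

/-- Functoriality in the presheaf of sets, at an object. -/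
def idxApp {P P' : Cᵒᵖ ⥤ Type (u + 1)} (τ : P ⟶ P') (M : PresheafOfModules.{u + 1} A) : obj P M ⟶ obj P' M where
  app Y := ModuleCat.ofHom (Finsupp.lmapDomain (M.obj Y) (A.obj Y) (τ.app Y))
  naturality {Y Z} g := by
    refine hom_ext' fun p m => ?_
    refine (congrArg (Finsupp.lmapDomain (M.obj Z) (A.obj Z) (τ.app Z)) (trans_single P M g p m)).trans ?_
    refine Finsupp.mapDomain_single.trans ?_
    refine Eq.trans ?_ (congrArg (trans P' M g) Finsupp.mapDomain_single).symm
    refine Eq.trans ?_ (trans_single P' M g _ m).symm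
    exact congrArg (fun q => mk Z q (M.map g m)) (ConcreteCategory.congr_hom (τ.naturality g) p)

/-- Functoriality in the presheaf of sets. -/
def idx {P P' : Cᵒᵖ ⥤ Type (u + 1)} (τ : P ⟶ P') : func (A := A) P ⟶ func P' where
  app := idxApp τ
  naturality M N f := PresheafOfModules.hom_ext fun Y => hom_ext' fun p m =>
    ((congrArg ((idxApp τ N).app Y) (map_apply P f Y p m)).trans Finsupp.mapDomain_single).trans
      ((congrArg ((map P' f).app Y) Finsupp.mapDomain_single).trans (map_apply P' f Y _ m)).symm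

theorem idx_apply {P P' : Cᵒᵖ ⥤ Type (u + 1)} (τ : P ⟶ P') (M : PresheafOfModules.{u + 1} A) (Y : Cᵒᵖ)
    (x : P.obj Y →₀ M.obj Y) : ((idx τ).app M).app Y x = Finsupp.mapDomain (τ.app Y) x := rfl

theorem idx_id (P : Cᵒᵖ ⥤ Type (u + 1)) : idx (A := A) (𝟙 P) = 𝟙 _ :=
  NatTrans.ext (funext fun M => PresheafOfModules.hom_ext fun Y => hom_ext' fun p m => Finsupp.mapDomain_single)

theorem idx_comp {P P' P'' : Cᵒᵖ ⥤ Type (u + 1)} (τ : P ⟶ P') (τ' : P' ⟶ P'') :
    idx (A := A) (τ ≫ τ') = idx τ ≫ idx τ' :=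
  NatTrans.ext (funext fun M => PresheafOfModules.hom_ext fun Y => ModuleCat.hom_ext (LinearMap.ext fun x =>
    Finsupp.mapDomain_comp (f := τ.app Y) (g := τ'.app Y) (v := x)))

/-- Functoriality in isomorphic presheaves of sets. -/
def idxIso {P P' : Cᵒᵖ ⥤ Type (u + 1)} (e : P ≅ P') : func (A := A) P ≅ func P' where
  hom := idx e.hom
  inv := idx e.inv
  hom_inv_id := by rw [← idx_comp, e.hom_inv_id, idx_id]
  inv_hom_id := by rw [← idx_comp, e.inv_hom_id, idx_id]

section Point

variable (P : Cᵒᵖ ⥤ Type (u + 1)) (h : ∀ Z, Nonempty (Unique (P.obj Z)))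

include h in
theorem bijective_collapse (M : PresheafOfModules.{u + 1} A) (Y : Cᵒᵖ) :
    Function.Bijective (fun x : P.obj Y →₀ M.obj Y => Finsupp.lsum ℕ (fun _ : P.obj Y => (LinearMap.id : M.obj Y →ₗ[A.obj Y] M.obj Y)) x) := by
  obtain ⟨_⟩ := h Y
  refine ⟨fun x y e => ?_, fun m => ⟨Finsupp.single default m, by simp⟩⟩
  rw [Finsupp.unique_single x, Finsupp.unique_single y] at e
  simp only [Finsupp.lsum_apply, LinearMap.id_coe, id_eq, Finsupp.sum_single_index] at e
  exact Finsupp.unique_ext e

/-- The collapse map. -/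
def collapse : func (A := A) P ⟶ 𝟭 _ where
  app M :=
    { app := fun Y => ModuleCat.ofHom (Finsupp.lsum ℕ (fun _ : P.obj Y => (LinearMap.id : M.obj Y →ₗ[A.obj Y] M.obj Y)))
      naturality := fun {Y Z} g => by
        refine hom_ext' fun p m => ?_
        refine (congrArg (Finsupp.lsum ℕ (fun _ : P.obj Z => (LinearMap.id : M.obj Z →ₗ[A.obj Z] M.obj Z))) (trans_single P M g p m)).trans ?_
        exact (Finsupp.lsum_single _ _ _ _).trans (congrArg (M.map g) (Finsupp.lsum_single ℕ (fun _ : P.obj Y => (LinearMap.id : M.obj Y →ₗ[A.obj Y] M.obj Y)) p m)).symm }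
  naturality M N f := PresheafOfModules.hom_ext fun Y => hom_ext' fun p m => by
    refine (congrArg (Finsupp.lsum ℕ (fun _ : P.obj Y => (LinearMap.id : N.obj Y →ₗ[A.obj Y] N.obj Y))) (map_apply P f Y p m)).trans ?_
    exact (Finsupp.lsum_single _ _ _ _).trans (congrArg (f.app Y) (Finsupp.lsum_single ℕ (fun _ : P.obj Y => (LinearMap.id : M.obj Y →ₗ[A.obj Y] M.obj Y)) p m)).symm

include h in
theorem isIso_collapse : IsIso (collapse (A := A) P) := by
  haveI : ∀ M : PresheafOfModules.{u + 1} A, IsIso ((collapse P).app M) := fun M => by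
    haveI : IsIso ((PresheafOfModules.toPresheaf A).map ((collapse P).app M)) := by
      haveI : ∀ Y, IsIso (((PresheafOfModules.toPresheaf A).map ((collapse P).app M)).app Y) := fun Y =>
        (ConcreteCategory.isIso_iff_bijective _).2 (bijective_collapse P h M Y)
      exact NatIso.isIso_of_isIso_app _
    exact isIso_of_reflects_iso _ (PresheafOfModules.toPresheaf A)
  exact NatIso.isIso_of_isIso_app _

end Point

section Rep

variable (X : C)

/-- The representable presheaf of sets. -/
abbrev rep : Cᵒᵖ ⥤ Type (u + 1) := yoneda.obj X ⋙ uliftFunctor.{u + 1}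

/-- The comparison with extension by zero. -/
def toExtApp (M : PresheafOfModules.{u + 1} A) (Y : Cᵒᵖ) :
    ((rep X).obj Y →₀ M.obj Y) →ₗ[A.obj Y] ((ext₀.obj ((res A X).obj M)).obj Y : Type (u + 1)) :=
  Finsupp.lsum ℕ fun φ : (rep X).obj Y => inj ((res A X).obj M) Y φ.down

theorem bijective_toExtApp (M : PresheafOfModules.{u + 1} A) (Y : Cᵒᵖ) : Function.Bijective (toExtApp X M Y) := by
  classical
  let back : (DirectSum (Y.unop ⟶ X) fun φ => summand ((res A X).obj M) Y φ) →ₗ[A.obj Y] ((rep X).obj Y →₀ M.obj Y) :=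
    DirectSum.toModule (A.obj Y) _ _ fun φ =>
      { toFun := fun m => Finsupp.single (⟨φ⟩ : (rep X).obj Y) (show M.obj Y from m)
        map_add' := fun a b => Finsupp.single_add _ _ _
        map_smul' := fun r a => (Finsupp.smul_single r _ _).symm }
  have h1 : ∀ x, back (toExtApp X M Y x) = x := by
    refine LinearMap.congr_fun (f := back.comp (toExtApp X M Y)) (g := LinearMap.id) (Finsupp.lhom_ext fun φ m => ?_)
    change back (toExtApp X M Y (Finsupp.single φ m)) = _
    refine (congrArg back (Finsupp.lsum_single _ _ _ _)).trans ?_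
    exact DirectSum.toModule_lof (M := fun φ => summand ((res A X).obj M) Y φ) (A.obj Y) φ.down m
  have h2 : ∀ x, toExtApp X M Y (back x) = x := by
    refine LinearMap.congr_fun (f := (toExtApp X M Y).comp back) (g := LinearMap.id) (LinearMap.toAddMonoidHom_injective (sum_ext fun φ m => ?_))
    change toExtApp X M Y (back (inj _ Y φ m)) = inj _ Y φ m
    refine (congrArg (toExtApp X M Y) (DirectSum.toModule_lof (M := fun φ => summand _ Y φ) (A.obj Y) φ m)).trans ?_
    exact Finsupp.lsum_single _ _ _ _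
  exact ⟨Function.LeftInverse.injective h1, Function.RightInverse.surjective h2⟩

/-- The comparison with extension by zero, as a natural transformation. -/
def toExt : func (A := A) (rep X) ⟶ res A X ⋙ ext₀ where
  app M :=
    { app := fun Y => ModuleCat.ofHom (toExtApp X M Y)
      naturality := fun {Y Z} g => by
        refine hom_ext' fun p m => ?_
        refine (congrArg (toExtApp X M Z) (trans_single (rep X) M g p m)).trans ?_
        refine (Finsupp.lsum_single _ _ _ _).trans ?_
        refine Eq.trans ?_ (congrArg ((extObj ((res A X).obj M)).map g) (Finsupp.lsum_single _ _ _ _)).symm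
        exact (extObj_map_inj ((res A X).obj M) g p.down m).symm }
  naturality M N f := PresheafOfModules.hom_ext fun Y => hom_ext' fun p m => by
    refine (congrArg (toExtApp X N Y) (map_apply (rep X) f Y p m)).trans ?_
    refine (Finsupp.lsum_single _ _ _ _).trans ?_
    refine Eq.trans ?_ (congrArg ((ext₀.map ((res A X).map f)).app Y) (Finsupp.lsum_single _ _ _ _)).symm
    exact (mapAux_inj ((res A X).map f) Y p.down m).symm

theorem isIso_toExt : IsIso (toExt (A := A) X) := by
  haveI : ∀ M : PresheafOfModules.{u + 1} A, IsIso ((toExt X).app M) := fun M => by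
    haveI : IsIso ((PresheafOfModules.toPresheaf A).map ((toExt X).app M)) := by
      haveI : ∀ Y, IsIso (((PresheafOfModules.toPresheaf A).map ((toExt X).app M)).app Y) := fun Y =>
        (ConcreteCategory.isIso_iff_bijective _).2 (bijective_toExtApp X M Y)
      exact NatIso.isIso_of_isIso_app _
    exact isIso_of_reflects_iso _ (PresheafOfModules.toPresheaf A)
  exact NatIso.isIso_of_isIso_app _

end Rep

section Sheaf

variable {J : GrothendieckTopology C} (R : Sheaf J RingCat.{u + 1}) [HasSheafify J AddCommGrpCat.{u + 1}]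
  [J.WEqualsLocallyBijective AddCommGrpCat.{u + 1}]

/-- The copower of a sheaf of modules. -/
abbrev TP (P : Cᵒᵖ ⥤ Type (u + 1)) : SheafOfModules.{u + 1} R ⥤ SheafOfModules.{u + 1} R :=
  SheafOfModules.forget R ⋙ func (A := R.obj) P ⋙ PresheafOfModules.sheafification (R₀ := R.obj) (𝟙 R.obj)

instance (P : Cᵒᵖ ⥤ Type (u + 1)) : (TP R P).Additive :=
  haveI : (PresheafOfModules.sheafification.{u + 1} (R₀ := R.obj) (𝟙 R.obj)).IsLeftAdjoint :=
    (PresheafOfModules.sheafificationAdjunction (R₀ := R.obj) (𝟙 R.obj)).isLeftAdjoint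
  haveI : PreservesBinaryBiproducts (PresheafOfModules.sheafification.{u + 1} (R₀ := R.obj) (𝟙 R.obj)) :=
    preservesBinaryBiproducts_of_preservesBinaryCoproducts _
  haveI : (PresheafOfModules.sheafification.{u + 1} (R₀ := R.obj) (𝟙 R.obj)).Additive :=
    Functor.additive_of_preservesBinaryBiproducts _
  inferInstance

/-- Functoriality in the presheaf of sets. -/
abbrev TPmap {P P' : Cᵒᵖ ⥤ Type (u + 1)} (τ : P ⟶ P') : TP R P ⟶ TP R P' :=
  Functor.whiskerLeft _ (Functor.whiskerRight (idx τ) _)

/-- Functoriality in isomorphic presheaves of sets. -/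
def TPiso {P P' : Cᵒᵖ ⥤ Type (u + 1)} (e : P ≅ P') : TP R P ≅ TP R P' :=
  Functor.isoWhiskerLeft _ (Functor.isoWhiskerRight (idxIso e) _)

/-- The copower by a point is the identity. -/
def TPpoint (P : Cᵒᵖ ⥤ Type (u + 1)) (h : ∀ Z, Nonempty (Unique (P.obj Z))) : TP R P ≅ 𝟭 _ :=
  haveI := isIso_collapse (A := R.obj) P h
  Functor.isoWhiskerLeft _ (Functor.isoWhiskerRight (asIso (collapse P)) _) ≪≫
    asIso (PresheafOfModules.sheafificationAdjunction (R₀ := R.obj) (𝟙 R.obj)).counit

variable [∀ X' : C, HasSheafify (J.over X') AddCommGrpCat.{u + 1}]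
  [∀ X' : C, (J.over X').WEqualsLocallyBijective AddCommGrpCat.{u + 1}]

/-- The copower by a representable is extension by zero of the restriction. -/
def TPrep (X' : C) : TP R (rep X') ≅ SheafOfModules.overFunctor.{u + 1} R X' ⋙ ext R X' :=
  haveI := isIso_toExt (A := R.obj) X'
  Functor.isoWhiskerLeft _ (Functor.isoWhiskerRight (asIso (toExt X')) _)

end Sheaf

end Groth.Agent.AlgSpPerfLib.Copower
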