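import Groth.Agent.AlgSpPerfLib.Model

/-!
# Maps from a perfect object vanish over an affine object
-/

set_option autoImplicit false
set_option linter.unusedSectionVars false
set_option linter.style.haveILetI false
set_option backward.isDefEq.respectTransparency false
set_option backward.isDefEq.respectTransparency.types false
set_option maxHeartbeats 2000000
set_option synthInstance.maxHeartbeats 200000

universe u

open CategoryTheory CategoryTheory.Limits AlgebraicGeometry Opposite AlgSp HomologicalComplex

noncomputable section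

attribute [local instance] HasDerivedCategory.standard

namespace Groth.Agent.AlgSpPerfLib

open ModEtQc

variable {S : Scheme.{u}} {X : Sp S} {E : EtOver X} [IsAffine E.obj.left.left] [EnoughInjectives (ModEt X)]
  (C : CochainComplex (ModEt X) ℤ) [C.IsKInjective]
  (hq : ∀ q, (C.homology q).IsQuasicoherent) (hK : IsPerfectEtDAt (DerivedCategory.Q.obj C) E)

include hq hK in
/-- Over an affine object, a map from a perfect object into a K-injective complex without cohomology in a fixed range
is null homotopic. -/
theorem exists_vanishing_slice :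
    ∃ a b : ℤ, a ≤ b ∧ ∀ (J : CochainComplex (ModEt X) ℤ) [J.IsKInjective],
      (∀ q, (J.homology q).IsQuasicoherent) → (∀ q, a ≤ q → q ≤ b → IsZero (J.homology q)) →
      ∀ φ : (mapC (resModEt E)).obj C ⟶ (mapC (resModEt E)).obj J, Nonempty (Homotopy φ 0) := by
  obtain ⟨F, a, b, hFa, hFb, hFp, ⟨e⟩⟩ := exists_projective_model C hq hK
  refine ⟨min a b, b, min_le_right _ _, fun J _ hJ hJz φ => ?_⟩
  haveI := isKInjective_res J E
  let J' := (mapC (resModEt E)).obj J
  haveI : F.IsKProjective := DRingLib.isKProjective_of_projective F b hFb hFp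
  obtain ⟨φ', hφ'⟩ := DerLib.KInjUse.Q_map_surjective ((mapC (tildeF E)).obj F) J' (e.inv ≫ DerivedCategory.Q.map φ)
  have hz : ∀ j, a ≤ j → j ≤ b → IsZero (((mapC (Γt E)).obj J').homology j) := fun j h1 h2 => by
    refine isZero_homology_map (Γt E) j (gammaGood_res J hJ j).1 ?_
    exact (Γt E).map_isZero (((resModEt E).map_isZero (hJz j (le_trans (min_le_left _ _) h1) h2)).of_iso
      ((J.sc j).mapHomologyIso (resModEt E)))
  have h0 : DerivedCategory.Q.map (trL (tildeAdj E) φ') = 0 :=
    Q_map_eq_zero_of_projective a b hFb hFa hFp hz _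
  obtain ⟨h⟩ : Nonempty (Homotopy (trL (tildeAdj E) φ') 0) := by
    refine ⟨HomotopyCategory.homotopyOfEq _ _ ((CochainComplex.IsKProjective.Qh_map_bijective F _).1 ?_)⟩
    rw [Functor.map_zero (HomotopyCategory.quotient _ _), Functor.map_zero]
    exact h0
  obtain ⟨h'⟩ := nonempty_homotopy_trR (tildeAdj E) ⟨h⟩
  have h1 : DerivedCategory.Q.map φ' = 0 := by
    rw [← trR_trL (tildeAdj E) φ']
    exact DerLib.KInjUse.Q_map_zero_of_quotient
      ((HomotopyCategory.eq_of_homotopy _ _ h').trans (Functor.map_zero _ _ _))
  have h2 : DerivedCategory.Q.map φ = 0 := by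
    rw [← cancel_epi e.inv, comp_zero, ← hφ']
    exact h1
  exact ⟨HomotopyCategory.homotopyOfEq _ _ ((DerLib.KInjUse.quotient_eq_zero_of_Q h2).trans (Functor.map_zero _ _ _).symm)⟩

end Groth.Agent.AlgSpPerfLib
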