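import Groth.Agent.AlgSpPerfLib.MV
import Groth.Agent.AlgSpPerfLib.Vanish
import Groth.Agent.AlgSpRlimLib.Trunc
import Groth.Agent.S10766
import Mathlib.Algebra.Homology.DerivedCategory.ShortExact

/-!
# Maps from a perfect object into complexes without cohomology in a fixed range vanish
-/

set_option autoImplicit false
set_option linter.unusedSectionVars false
set_option linter.style.haveILetI false
set_option backward.isDefEq.respectTransparency false
set_option backward.isDefEq.respectTransparency.types false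
set_option maxHeartbeats 2000000
set_option synthInstance.maxHeartbeats 400000

universe u

open CategoryTheory CategoryTheory.Limits AlgebraicGeometry Opposite AlgSp HomologicalComplex Pretriangulated AlgSpLib

noncomputable section

attribute [local instance] HasDerivedCategory.standard

namespace Groth.Agent.AlgSpPerfLib

open Copower

section Generic

variable {A : Type*} [Category A] [Abelian A] [HasDerivedCategory A]

theorem eq_zero_of_decomp {K K₁ K₂ : CochainComplex A ℤ} {L : DerivedCategory A} (p₁ : K ⟶ K₁) (i₁ : K₁ ⟶ K)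
    (p₂ : K ⟶ K₂) (i₂ : K₂ ⟶ K) (h : p₁ ≫ i₁ + p₂ ≫ i₂ = 𝟙 K) (ψ : DerivedCategory.Q.obj K ⟶ L)
    (h1 : DerivedCategory.Q.map i₁ ≫ ψ = 0) (h2 : DerivedCategory.Q.map i₂ ≫ ψ = 0) : ψ = 0 := by
  rw [← Category.id_comp ψ, ← DerivedCategory.Q.map_id, ← h, Functor.map_add, Preadditive.add_comp,
    Functor.map_comp, Functor.map_comp, Category.assoc, Category.assoc, h1, h2, comp_zero, comp_zero, add_zero]

theorem eq_zero_of_shortExact {S₀ : ShortComplex (CochainComplex A ℤ)} (hS : S₀.ShortExact) {L : DerivedCategory A}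
    (h2 : ∀ ψ : DerivedCategory.Q.obj S₀.X₂ ⟶ L, ψ = 0) (h1 : ∀ ψ : DerivedCategory.Q.obj S₀.X₁ ⟶ L⟦(-1 : ℤ)⟧, ψ = 0)
    (φ : DerivedCategory.Q.obj S₀.X₃ ⟶ L) : φ = 0 := by
  obtain ⟨ψ, hψ⟩ := Triangle.yoneda_exact₃ _ (DerivedCategory.triangleOfSES_distinguished hS) φ (h2 _)
  suffices hψ0 : ψ = 0 by exact hψ.trans (by rw [hψ0]; exact comp_zero)
  refine (shiftFunctor (DerivedCategory A) (-1 : ℤ)).map_injective ?_
  rw [Functor.map_zero, ← cancel_epi ((shiftFunctorCompIsoId (DerivedCategory A) (1 : ℤ) (-1) (by omega)).inv.app _), comp_zero]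
  exact h1 _

end Generic

variable {S : Scheme.{u}} {X : Space S}

/-- Maps into objects with quasi-coherent cohomology vanishing on a fixed range are zero. -/
def Vanishes (K : DModEt X.obj) : Prop :=
  ∃ a b : ℤ, a ≤ b ∧ ∀ L : DModEt X.obj, DCoh.IsQCohDMod (OEtRing X.obj) L →
    (∀ i : ℤ, a ≤ i → i ≤ b → IsZero (DCoh.HDMod (OEtRing X.obj) L i)) → ∀ φ : K ⟶ L, φ = 0

theorem vanishes_of_iso {K K' : DModEt X.obj} (e : K ≅ K') (h : Vanishes K) : Vanishes K' := by
  obtain ⟨a, b, hab, h⟩ := h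
  exact ⟨a, b, hab, fun L hL hz φ => by rw [← cancel_epi e.hom, comp_zero]; exact h L hL hz _⟩

/-- Cohomology of a shift. -/
def hShift (L : DModEt X.obj) (n i j : ℤ) (h : n + i = j) :
    DCoh.HDMod (OEtRing X.obj) (L⟦n⟧) i ≅ DCoh.HDMod (OEtRing X.obj) L j :=
  ((DerivedCategory.homologyFunctor (ModEt X.obj) 0).shiftIso n i j h).app L

theorem isQCoh_shift {L : DModEt X.obj} (hL : DCoh.IsQCohDMod (OEtRing X.obj) L) (n : ℤ) :
    DCoh.IsQCohDMod (OEtRing X.obj) (L⟦n⟧) := fun i =>
  ObjectProperty.prop_of_iso (SheafOfModules.isQuasicoherent (OEtRing X.obj)) (hShift L n i (n + i) rfl).symm (hL _)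

theorem isPerfectEtD_of_iso {K K' : DModEt X.obj} (e : K ≅ K') (h : IsPerfectEtD K) : IsPerfectEtD K' := by
  intro U
  obtain ⟨ι, V, g, hg, hV⟩ := h U
  refine ⟨ι, V, g, hg, fun i => ?_⟩
  obtain ⟨P, hP, ⟨e'⟩⟩ := hV i
  exact ⟨P, hP, ⟨((resDEt (V i)).mapIso e).symm ≪≫ e'⟩⟩

theorem isQCoh_of_perfect {K : DModEt X.obj} (h : IsPerfectEtD K) : DCoh.IsQCohDMod (OEtRing X.obj) K := by
  intro i
  refine S10771.result X (i - 1) K ?_ i (by omega)
  intro U
  obtain ⟨ι, V, g, hg, hV⟩ := h U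
  refine ⟨ι, V, g, hg, fun k => ?_⟩
  obtain ⟨P, hP, ⟨e⟩⟩ := hV k
  exact ⟨P, e.inv, hP, fun j _ => inferInstance, inferInstance⟩

variable (C : CochainComplex (ModEt X.obj) ℤ)

/-- The copower complex attached to an object etale over the space. -/
abbrev cxOf (P : (EtOver X.obj)ᵒᵖ ⥤ Type (u + 1)) : CochainComplex (ModEt X.obj) ℤ :=
  (mapC (TP (OEtRing X.obj) P)).obj C

/-- The induced map of copower complexes. -/
abbrev cxMap {P P' : (EtOver X.obj)ᵒᵖ ⥤ Type (u + 1)} (τ : P ⟶ P') : cxOf C P ⟶ cxOf C P' :=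
  (NatTrans.mapHomologicalComplex (TPmap (OEtRing X.obj) τ) (ComplexShape.up ℤ)).app C

section Affine

variable [C.IsKInjective]

/-- An object representing an affine etale space over `X`. -/
abbrev affObj {W : EtSpOver X} {T : Over S} (e : (yon S).obj T ≅ W.obj.left.obj) : EtOver X.obj :=
  EtOver.mk (e.hom ≫ W.obj.hom.hom) (W.property e.hom (repWith_of_isIso e.hom))

/-- Points of an affine etale space. -/
def repIso {W : EtSpOver X} {T : Over S} (e : (yon S).obj T ≅ W.obj.left.obj) : rep (affObj e) ≅ PW W :=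
  NatIso.ofComponents
    (fun Z => Equiv.toIso
      { toFun := fun k => ⟨(yon S).map k.down.hom.left ≫ e.hom, by
          rw [Category.assoc]; exact EtOver.w k.down⟩
        invFun := fun w => ⟨EtOver.homMk ((yon S).preimage (w.1 ≫ e.inv)) (by
          rw [Functor.map_preimage]
          refine Eq.trans ?_ w.2
          exact (Category.assoc _ _ _).trans (congrArg (w.1 ≫ ·) (e.inv_hom_id_assoc _)))⟩
        left_inv := fun k => by
          refine ULift.ext _ _ (EtOver.hom_ext _ _ ((yon S).map_injective ?_))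
          change (yon S).map ((yon S).preimage (X := Z.unop.obj.left) (Y := T)
            (((yon S).map (X := Z.unop.obj.left) (Y := T) k.down.hom.left ≫ e.hom) ≫ e.inv)) = _
          rw [Functor.map_preimage, Category.assoc, e.hom_inv_id, Category.comp_id]
        right_inv := fun w => by
          refine pw_ext ?_
          change (yon S).map ((yon S).preimage (X := Z.unop.obj.left) (Y := T) (w.1 ≫ e.inv)) ≫ e.hom = w.1
          rw [Functor.map_preimage, Category.assoc, e.inv_hom_id, Category.comp_id] })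
    (fun {Z Z'} g => by
      refine ConcreteCategory.hom_ext _ _ fun k => pw_ext ?_
      change (yon S).map (g.unop.hom.left ≫ k.down.hom.left) ≫ e.hom =
        (yon S).map g.unop.hom.left ≫ (yon S).map k.down.hom.left ≫ e.hom
      rw [Functor.map_comp, Category.assoc])

theorem vanishes_affine (hK : IsPerfectEtD (DerivedCategory.Q.obj C)) (hq : ∀ q, (C.homology q).IsQuasicoherent)
    (W : EtSpOver X) (T : Over S) [IsAffine T.left] (e : (yon S).obj T ≅ W.obj.left.obj) :
    Vanishes (DerivedCategory.Q.obj (cxOf C (PW W))) := by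
  haveI : EnoughInjectives (ModEt X.obj) := ModEtInjLib.enoughInjectives_sheaf (OEtRing X.obj)
  haveI : IsGrothendieckAbelian.{u + 1} (ModEt X.obj) := AlgSpRlimLib.isGrothendieckAbelian_modEt
  let E := affObj e
  haveI : IsAffine E.obj.left.left := ‹IsAffine T.left›
  let R := OEtRing X.obj
  let ext := AlgSpRlimLib.ExtZero.ext R E
  let adj := AlgSpRlimLib.ExtZero.adj R E
  haveI : ext.IsLeftAdjoint := adj.isLeftAdjoint
  haveI : PreservesBinaryBiproducts ext := preservesBinaryBiproducts_of_preservesBinaryCoproducts _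
  haveI : ext.Additive := Functor.additive_of_preservesBinaryBiproducts _
  let ε : TP R (PW W) ≅ resModEt E ⋙ ext := (TPiso R (repIso e)).symm ≪≫ TPrep R E
  let i₀ : cxOf C (PW W) ≅ (mapC ext).obj ((mapC (resModEt E)).obj C) :=
    (NatIso.mapHomologicalComplex ε (ComplexShape.up ℤ)).app C
  obtain ⟨a, b, hab, H⟩ := exists_vanishing_slice C hq (hK E)
  refine ⟨a, b, hab, fun L hL hz φ => ?_⟩
  obtain ⟨J, hJ, ⟨eL⟩⟩ := DerLib.KInjUse.exists_iso_Q_kInjective L
  haveI := hJ
  have eH : ∀ q, DCoh.HDMod (OEtRing X.obj) L q ≅ J.homology q := fun q =>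
    (DerivedCategory.homologyFunctor _ q).mapIso eL ≪≫ (DerivedCategory.homologyFunctorFactors _ q).app J
  obtain ⟨φ', hφ'⟩ := DerLib.KInjUse.Q_map_surjective ((mapC ext).obj ((mapC (resModEt E)).obj C)) J
    (DerivedCategory.Q.map i₀.inv ≫ φ ≫ eL.hom)
  obtain ⟨h⟩ := nonempty_homotopy_trR adj (H J
    (fun q => ObjectProperty.prop_of_iso (SheafOfModules.isQuasicoherent (OEtRing X.obj)) (eH q) (hL q))
    (fun q h1 h2 => (hz q h1 h2).of_iso (eH q).symm) (trL adj φ'))
  rw [trR_trL] at h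
  have h0 : DerivedCategory.Q.map φ' = 0 :=
    DerLib.KInjUse.Q_map_zero_of_quotient ((HomotopyCategory.eq_of_homotopy _ _ h).trans (Functor.map_zero _ _ _))
  rw [← cancel_epi (DerivedCategory.Q.map i₀.inv), ← cancel_mono eL.hom, Category.assoc, ← hφ', h0, comp_zero,
    zero_comp]

end Affine

section MV

variable {W U V UV : EtSpOver X} (j : U ⟶ W) (f : V ⟶ W) (p : UV ⟶ U) (q : UV ⟶ V)
  (hsq : IsElemDistSq j.hom.left.hom f.hom.left.hom)
  (hpb : IsPullback p.hom.left.hom q.hom.left.hom j.hom.left.hom f.hom.left.hom)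
  {T₀ : Over S} (e : (yon S).obj T₀ ≅ V.obj.left.obj)

theorem sum_total_TP (P Q : (EtOver X.obj)ᵒᵖ ⥤ Type (u + 1)) (N : ModEt X.obj) :
    ((Functor.whiskerLeft (SheafOfModules.forget _) (Functor.whiskerRight (fstP P Q)
          (PresheafOfModules.sheafification (R₀ := (OEtRing X.obj).obj) (𝟙 (OEtRing X.obj).obj)))).app N ≫
        (TPmap (OEtRing X.obj) (sumInl P Q)).app N) +
      ((Functor.whiskerLeft (SheafOfModules.forget _) (Functor.whiskerRight (sndP P Q)
          (PresheafOfModules.sheafification (R₀ := (OEtRing X.obj).obj) (𝟙 (OEtRing X.obj).obj)))).app N ≫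
        (TPmap (OEtRing X.obj) (sumInr P Q)).app N) = 𝟙 _ := by
  let a := PresheafOfModules.sheafification.{u + 1} (R₀ := (OEtRing X.obj).obj) (𝟙 (OEtRing X.obj).obj)
  haveI : a.IsLeftAdjoint := (PresheafOfModules.sheafificationAdjunction (R₀ := (OEtRing X.obj).obj) (𝟙 (OEtRing X.obj).obj)).isLeftAdjoint
  haveI : PreservesBinaryBiproducts a := preservesBinaryBiproducts_of_preservesBinaryCoproducts _
  haveI : a.Additive := Functor.additive_of_preservesBinaryBiproducts _
  change a.map ((fstP P Q).app N.val) ≫ a.map ((idx (sumInl P Q)).app N.val) +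
    a.map ((sndP P Q).app N.val) ≫ a.map ((idx (sumInr P Q)).app N.val) = 𝟙 _
  rw [← a.map_comp, ← a.map_comp, ← a.map_add]
  refine Eq.trans (congrArg a.map ?_) (a.map_id _)
  exact congr_app (sum_total (A := (OEtRing X.obj).obj) P Q) N.val

include hsq hpb e in
theorem vanishes_mv (hU : Vanishes (DerivedCategory.Q.obj (cxOf C (PW U))))
    (hV : Vanishes (DerivedCategory.Q.obj (cxOf C (PW V))))
    (hUV : Vanishes (DerivedCategory.Q.obj (cxOf C (PW UV)))) :
    Vanishes (DerivedCategory.Q.obj (cxOf C (PW W))) := by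
  obtain ⟨a₁, b₁, hab₁, H₁⟩ := hU
  obtain ⟨a₂, b₂, hab₂, H₂⟩ := hV
  obtain ⟨a₃, b₃, hab₃, H₃⟩ := hUV
  refine ⟨min (min a₁ a₂) (a₃ - 1), max (max b₁ b₂) (b₃ - 1), by omega, fun L hL hz φ => ?_⟩
  let P₂ := sumP (PW U) (PW V)
  let S₀ : ShortComplex (CochainComplex (ModEt X.obj) ℤ) :=
    ShortComplex.mk ((NatTrans.mapHomologicalComplex (dT p q) (ComplexShape.up ℤ)).app C)
      ((NatTrans.mapHomologicalComplex (gT j f) (ComplexShape.up ℤ)).app C)
      (HomologicalComplex.hom_ext _ _ fun i => (exists_shortExact j f p q hsq hpb e (C.X i)).choose)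
  have hS : S₀.ShortExact := HomologicalComplex.shortExact_of_degreewise_shortExact S₀ fun i =>
    (exists_shortExact j f p q hsq hpb e (C.X i)).choose_spec
  let prFst : cxOf C P₂ ⟶ cxOf C (PW U) := (NatTrans.mapHomologicalComplex (Functor.whiskerLeft (SheafOfModules.forget _)
    (Functor.whiskerRight (fstP (PW U) (PW V)) _)) (ComplexShape.up ℤ)).app C
  let prSnd : cxOf C P₂ ⟶ cxOf C (PW V) := (NatTrans.mapHomologicalComplex (Functor.whiskerLeft (SheafOfModules.forget _)
    (Functor.whiskerRight (sndP (PW U) (PW V)) _)) (ComplexShape.up ℤ)).app C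
  have htot : prFst ≫ cxMap C (sumInl _ _) + prSnd ≫ cxMap C (sumInr _ _) = 𝟙 (cxOf C P₂) :=
    HomologicalComplex.hom_ext _ _ fun i => sum_total_TP (PW U) (PW V) (C.X i)
  refine eq_zero_of_shortExact hS (fun ψ => ?_) (fun ψ => ?_) φ
  · exact eq_zero_of_decomp prFst (cxMap C (sumInl _ _)) prSnd (cxMap C (sumInr _ _)) htot ψ
      (H₁ L hL (fun i h h' => hz i (by omega) (by omega)) _) (H₂ L hL (fun i h h' => hz i (by omega) (by omega)) _)
  · exact H₃ _ (isQCoh_shift hL (-1))
      (fun i h h' => (hz (-1 + i) (by omega) (by omega)).of_iso (hShift L (-1) i (-1 + i) rfl)) ψ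

end MV

/-- The space over itself. -/
abbrev selfObj (X : Space S) : EtSpOver X :=
  ⟨Over.mk (𝟙 X), fun _ φ h => by
    change RepWith @Etale (φ ≫ 𝟙 X.obj)
    exact (Category.comp_id φ).symm ▸ h⟩

theorem unique_selfObj (Z : (EtOver X.obj)ᵒᵖ) : Nonempty (Unique ((PW (selfObj X)).obj Z)) :=
  ⟨{ default := ⟨Z.unop.obj.hom, Category.comp_id _⟩
     uniq := fun w => pw_ext ((Category.comp_id _).symm.trans w.2) }⟩

theorem vanishes_of_isPerfect [QuasiSeparatedSpace ↥S] (hXc : IsQuasiCompactSp X.obj)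
    (hXs : IsQuasiSeparatedSp X.obj) (K : DModEt X.obj) (hK : IsPerfectEtD K) : Vanishes K := by
  haveI : IsGrothendieckAbelian.{u + 1} (ModEt X.obj) := AlgSpRlimLib.isGrothendieckAbelian_modEt
  obtain ⟨C, hC, ⟨eK⟩⟩ := DerLib.KInjUse.exists_iso_Q_kInjective K
  haveI := hC
  have hKC := isPerfectEtD_of_iso eK hK
  have hq : ∀ q, (C.homology q).IsQuasicoherent := fun q =>
    ObjectProperty.prop_of_iso (SheafOfModules.isQuasicoherent (OEtRing X.obj))
      ((DerivedCategory.homologyFunctorFactors _ q).app C) (isQCoh_of_perfect hKC q)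
  have key : Vanishes (DerivedCategory.Q.obj (cxOf C (PW (selfObj X)))) :=
    S10766.result X hXc hXs (fun W => Vanishes (DerivedCategory.Q.obj (cxOf C (PW W))))
      (fun W T hT ⟨e⟩ => haveI := hT; vanishes_affine C hKC hq W T e)
      (fun W U V UV j f p q _ _ _ ⟨T, _, ⟨e⟩⟩ hsq hpb hU hV hUV => vanishes_mv C j f p q hsq hpb e hU hV hUV)
      (selfObj X) hXc hXs
  refine vanishes_of_iso (DerivedCategory.Q.mapIso ?_ ≪≫ eK.symm) key
  exact (NatIso.mapHomologicalComplex (TPpoint (OEtRing X.obj) _ unique_selfObj) (ComplexShape.up ℤ)).app C ≪≫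
    (Functor.mapHomologicalComplexIdIso (ModEt X.obj) (ComplexShape.up ℤ)).app C

end Groth.Agent.AlgSpPerfLib
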