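import Mathlib.Algebra.Homology.HomotopyCategory.KInjective
import Mathlib.Algebra.Homology.ShortComplex.PreservesHomology
import Mathlib.Algebra.Homology.HomologicalComplexLimits
import Mathlib.CategoryTheory.Abelian.Basic

/-!
# Adjoint exact functors on complexes; functors computing cohomology termwise
-/

set_option autoImplicit false
set_option linter.unusedSectionVars false
set_option linter.style.haveILetI false
set_option backward.isDefEq.respectTransparency false
set_option backward.isDefEq.respectTransparency.types false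
set_option maxHeartbeats 1000000

universe v₁ v₂ u₁ u₂

open CategoryTheory CategoryTheory.Limits HomologicalComplex

noncomputable section

namespace Groth.Agent.AlgSpPerfLib

variable {A : Type u₁} [Category.{v₁} A] [Abelian A] {B : Type u₂} [Category.{v₂} B] [Abelian B]

/-- A functor on cochain complexes. -/
abbrev mapC (F : A ⥤ B) [F.Additive] : CochainComplex A ℤ ⥤ CochainComplex B ℤ :=
  F.mapHomologicalComplex (ComplexShape.up ℤ)

section Adj

variable {L : A ⥤ B} {R : B ⥤ A} (adj : L ⊣ R) [L.Additive] [R.Additive]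

/-- The unit on complexes. -/
def unitC (K : CochainComplex A ℤ) : K ⟶ (mapC R).obj ((mapC L).obj K) where
  f i := adj.unit.app (K.X i)
  comm' i j _ := (adj.unit.naturality (K.d i j)).symm

/-- The counit on complexes. -/
def counitC (I : CochainComplex B ℤ) : (mapC L).obj ((mapC R).obj I) ⟶ I where
  f i := adj.counit.app (I.X i)
  comm' i j _ := (adj.counit.naturality (I.d i j)).symm

/-- Transposition to the right. -/
def trL {K : CochainComplex A ℤ} {I : CochainComplex B ℤ} (φ : (mapC L).obj K ⟶ I) : K ⟶ (mapC R).obj I :=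
  unitC adj K ≫ (mapC R).map φ

/-- Transposition to the left. -/
def trR {K : CochainComplex A ℤ} {I : CochainComplex B ℤ} (ψ : K ⟶ (mapC R).obj I) : (mapC L).obj K ⟶ I :=
  (mapC L).map ψ ≫ counitC adj I

theorem trR_trL {K : CochainComplex A ℤ} {I : CochainComplex B ℤ} (φ : (mapC L).obj K ⟶ I) :
    trR adj (trL adj φ) = φ := by
  ext i : 1
  simp [trR, trL, unitC, counitC]
  rw [← Category.assoc]
  exact (congrArg (· ≫ φ.f i) (adj.left_triangle_components (K.X i))).trans (Category.id_comp _)

theorem trL_trR {K : CochainComplex A ℤ} {I : CochainComplex B ℤ} (ψ : K ⟶ (mapC R).obj I) :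
    trL adj (trR adj ψ) = ψ := by
  ext i : 1
  have h := adj.unit.naturality (ψ.f i)
  simp only [Functor.id_map, Functor.comp_map] at h
  simp only [trR, trL, unitC, counitC, mapC, HomologicalComplex.comp_f, Functor.mapHomologicalComplex_map_f,
    Functor.map_comp]
  rw [← Category.assoc, ← h, Category.assoc]
  exact (congrArg (ψ.f i ≫ ·) (adj.right_triangle_components (I.X i))).trans (Category.comp_id _)

theorem nonempty_homotopy_trR {K : CochainComplex A ℤ} {I : CochainComplex B ℤ} {ψ : K ⟶ (mapC R).obj I}
    (h : Nonempty (Homotopy ψ 0)) : Nonempty (Homotopy (trR adj ψ) 0) := by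
  obtain ⟨h⟩ := h
  exact ⟨((L.mapHomotopy h).compRight (counitC adj I)).trans (Homotopy.ofEq (by simp))⟩

theorem nonempty_homotopy_trL {K : CochainComplex A ℤ} {I : CochainComplex B ℤ} {φ : (mapC L).obj K ⟶ I}
    (h : Nonempty (Homotopy φ 0)) : Nonempty (Homotopy (trL adj φ) 0) := by
  obtain ⟨h⟩ := h
  exact ⟨((R.mapHomotopy h).compLeft (unitC adj K)).trans (Homotopy.ofEq (by simp))⟩

include adj in
/-- The right adjoint of an exact functor preserves K-injective complexes. -/
theorem isKInjective_map [PreservesFiniteLimits L] [PreservesFiniteColimits L] (I : CochainComplex B ℤ)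
    [I.IsKInjective] : ((mapC R).obj I).IsKInjective := by
  refine ⟨fun {K} f hK => ?_⟩
  have hac : ((mapC L).obj K).Acyclic := fun i => by
    rw [exactAt_iff]
    exact ((exactAt_iff K i).1 (hK i)).map L
  have h := nonempty_homotopy_trL adj ⟨CochainComplex.IsKInjective.homotopyZero (trR adj f) hac⟩
  rwa [trL_trR] at h

end Adj

section FExact

variable (F : A ⥤ B) [F.Additive]

/-- The functor computes cohomology in degree `m` termwise. -/
structure FExact (K : CochainComplex A ℤ) (m : ℤ) : Prop where
  epi : Epi (F.map (K.homologyπ m))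
  exact : (ShortComplex.mk (F.map (K.toCycles (m - 1) m)) (F.map (K.homologyπ m))
    (by rw [← F.map_comp, K.toCycles_comp_homologyπ, F.map_zero])).Exact

variable [PreservesFiniteLimits F] (K : CochainComplex A ℤ) (m : ℤ)

/-- The comparison of cycles. -/
def cyc : F.obj (K.cycles m) ⟶ ((mapC F).obj K).cycles m :=
  ((mapC F).obj K).liftCycles (F.map (K.iCycles m)) (m + 1) (by simp) (by
    change F.map (K.iCycles m) ≫ F.map (K.d m (m + 1)) = 0
    rw [← F.map_comp, K.iCycles_d, F.map_zero])

theorem cyc_i : cyc F K m ≫ ((mapC F).obj K).iCycles m = F.map (K.iCycles m) :=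
  HomologicalComplex.liftCycles_i _ _ _ _ _

theorem isIso_cyc : IsIso (cyc F K m) := by
  let h1 := (KernelFork.mapIsLimit _ (K.cyclesIsKernel m (m + 1) (by simp)) F)
  let h2 := ((mapC F).obj K).cyclesIsKernel m (m + 1) (by simp)
  have e : cyc F K m = (IsLimit.conePointUniqueUpToIso h1 h2).hom := by
    rw [← cancel_mono (((mapC F).obj K).iCycles m), cyc_i]
    exact (IsLimit.conePointUniqueUpToIso_hom_comp h1 h2 WalkingParallelPair.zero).symm
  rw [e]
  infer_instance

theorem cyc_natural {L : CochainComplex A ℤ} (f : K ⟶ L) :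
    F.map (cyclesMap f m) ≫ cyc F L m = cyc F K m ≫ cyclesMap ((mapC F).map f) m := by
  rw [← cancel_mono (((mapC F).obj L).iCycles m), Category.assoc, Category.assoc, cyc_i, cyclesMap_i,
    ← Category.assoc, cyc_i, ← F.map_comp, cyclesMap_i]
  exact F.map_comp _ _

/-- Cohomology commutes with the functor. -/
theorem exists_homologyIso (h : FExact F K m) :
    ∃ e : F.obj (K.homology m) ≅ ((mapC F).obj K).homology m,
      F.map (K.homologyπ m) ≫ e.hom = cyc F K m ≫ ((mapC F).obj K).homologyπ m := by
  haveI := isIso_cyc F K m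
  haveI := h.epi
  let T := ShortComplex.mk (F.map (K.toCycles (m - 1) m)) (F.map (K.homologyπ m))
    (by rw [← F.map_comp, K.toCycles_comp_homologyπ, F.map_zero])
  haveI : Epi T.g := h.epi
  let h1 := h.exact.gIsCokernel
  have hw : F.map (K.toCycles (m - 1) m) ≫ cyc F K m = ((mapC F).obj K).toCycles (m - 1) m := by
    rw [← cancel_mono (((mapC F).obj K).iCycles m), Category.assoc, cyc_i, toCycles_i, ← F.map_comp, toCycles_i]
    rfl
  let G := (mapC F).obj K
  have hc : T.f ≫ (cyc F K m ≫ G.homologyπ m) = 0 := by
    rw [← Category.assoc]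
    exact (congrArg (· ≫ G.homologyπ m) hw).trans (G.toCycles_comp_homologyπ _ _)
  have hc' : G.toCycles (m - 1) m ≫ (inv (cyc F K m) ≫ T.g) = 0 := by
    rw [show G.toCycles (m - 1) m = F.map (K.toCycles (m - 1) m) ≫ cyc F K m from hw.symm, Category.assoc,
      IsIso.hom_inv_id_assoc]
    exact T.zero
  obtain ⟨a, ha⟩ := CokernelCofork.IsColimit.desc' h1 _ hc
  obtain ⟨b, hb⟩ := CokernelCofork.IsColimit.desc' (G.homologyIsCokernel (m - 1) m (by simp)) _ hc'
  simp only [Cofork.π_ofπ] at ha hb
  refine ⟨⟨a, b, ?_, ?_⟩, ha⟩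
  · rw [← cancel_epi T.g]
    rw [← Category.assoc, ha, Category.assoc, hb, IsIso.hom_inv_id_assoc, Category.comp_id]
  · rw [← cancel_epi (G.homologyπ m)]
    rw [← Category.assoc, hb, Category.assoc, ha, IsIso.inv_hom_id_assoc, Category.comp_id]

theorem isZero_homology_map {L : CochainComplex A ℤ} (hL : FExact F L m) (h : IsZero (F.obj (L.homology m))) :
    IsZero (((mapC F).obj L).homology m) :=
  h.of_iso (exists_homologyIso F L m hL).choose.symm

theorem isIso_homologyMap_iff {L : CochainComplex A ℤ} (f : K ⟶ L) (hK : FExact F K m) (hL : FExact F L m) :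
    IsIso (homologyMap ((mapC F).map f) m) ↔ IsIso (F.map (homologyMap f m)) := by
  obtain ⟨eK, hK'⟩ := exists_homologyIso F K m hK
  obtain ⟨eL, hL'⟩ := exists_homologyIso F L m hL
  have key : F.map (homologyMap f m) ≫ eL.hom = eK.hom ≫ homologyMap ((mapC F).map f) m := by
    haveI := hK.epi
    rw [← cancel_epi (F.map (K.homologyπ m)), ← F.map_comp_assoc, homologyπ_naturality, F.map_comp, Category.assoc,
      hL', ← Category.assoc, cyc_natural, Category.assoc, ← homologyπ_naturality, ← Category.assoc, ← hK',
      Category.assoc]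
  constructor
  · intro h
    haveI : IsIso (F.map (homologyMap f m) ≫ eL.hom) := by rw [key]; infer_instance
    exact IsIso.of_isIso_comp_right _ eL.hom
  · intro h
    haveI : IsIso (eK.hom ≫ homologyMap ((mapC F).map f) m) := by rw [← key]; infer_instance
    exact IsIso.of_isIso_comp_left eK.hom _

end FExact

end Groth.Agent.AlgSpPerfLib
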