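import Groth.Agent.AlgSpPerfLib.Square
import Groth.Agent.ModEtQcLib.Exact
import Mathlib.CategoryTheory.Sites.EpiMono
import Mathlib.Algebra.Homology.ShortComplex.ShortExact

/-!
# The Mayer-Vietoris sequence of copowers along an elementary distinguished square
-/

set_option autoImplicit false
set_option linter.unusedSectionVars false
set_option linter.style.haveILetI false
set_option backward.isDefEq.respectTransparency false
set_option backward.isDefEq.respectTransparency.types false
set_option maxHeartbeats 2000000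
set_option synthInstance.maxHeartbeats 400000

universe u

open CategoryTheory CategoryTheory.Limits AlgebraicGeometry Opposite AlgSp

noncomputable section

namespace Groth.Agent.AlgSpPerfLib

open Copower

section Gen

variable {C : Type (u + 1)} [Category.{u} C]

/-- The disjoint union of two presheaves of sets. -/
def sumP (P Q : Cᵒᵖ ⥤ Type (u + 1)) : Cᵒᵖ ⥤ Type (u + 1) where
  obj Z := P.obj Z ⊕ Q.obj Z
  map g := ↾Sum.map (P.map g) (Q.map g)
  map_id Z := by
    refine ConcreteCategory.hom_ext _ _ fun x => ?_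
    rcases x with x | x
    · exact congrArg Sum.inl (ConcreteCategory.congr_hom (P.map_id Z) x)
    · exact congrArg Sum.inr (ConcreteCategory.congr_hom (Q.map_id Z) x)
  map_comp g h := by
    refine ConcreteCategory.hom_ext _ _ fun x => ?_
    rcases x with x | x
    · exact congrArg Sum.inl (ConcreteCategory.congr_hom (P.map_comp g h) x)
    · exact congrArg Sum.inr (ConcreteCategory.congr_hom (Q.map_comp g h) x)

/-- The first inclusion. -/
def sumInl (P Q : Cᵒᵖ ⥤ Type (u + 1)) : P ⟶ sumP P Q where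
  app _ := ↾Sum.inl
  naturality _ _ _ := rfl

/-- The second inclusion. -/
def sumInr (P Q : Cᵒᵖ ⥤ Type (u + 1)) : Q ⟶ sumP P Q where
  app _ := ↾Sum.inr
  naturality _ _ _ := rfl

/-- The map out of a disjoint union. -/
def sumDesc {P Q R : Cᵒᵖ ⥤ Type (u + 1)} (a : P ⟶ R) (b : Q ⟶ R) : sumP P Q ⟶ R where
  app Z := ↾Sum.elim (a.app Z) (b.app Z)
  naturality Y Z g := by
    refine ConcreteCategory.hom_ext _ _ fun x => ?_
    rcases x with x | x
    · exact ConcreteCategory.congr_hom (a.naturality g) x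
    · exact ConcreteCategory.congr_hom (b.naturality g) x

theorem sumInl_desc {P Q R : Cᵒᵖ ⥤ Type (u + 1)} (a : P ⟶ R) (b : Q ⟶ R) : sumInl P Q ≫ sumDesc a b = a := rfl

theorem sumInr_desc {P Q R : Cᵒᵖ ⥤ Type (u + 1)} (a : P ⟶ R) (b : Q ⟶ R) : sumInr P Q ≫ sumDesc a b = b := rfl

variable {A : Cᵒᵖ ⥤ RingCat.{u + 1}} (M : PresheafOfModules.{u + 1} A)

/-- The first projection of a copower by a disjoint union. -/
def fstApp (P Q : Cᵒᵖ ⥤ Type (u + 1)) (Z : Cᵒᵖ) :
    ((sumP P Q).obj Z →₀ M.obj Z) →ₗ[A.obj Z] (P.obj Z →₀ M.obj Z) :=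
  Finsupp.lsum ℕ fun b : P.obj Z ⊕ Q.obj Z => Sum.elim (fun p => Finsupp.lsingle p) (fun _ => 0) b

/-- The second projection of a copower by a disjoint union. -/
def sndApp (P Q : Cᵒᵖ ⥤ Type (u + 1)) (Z : Cᵒᵖ) :
    ((sumP P Q).obj Z →₀ M.obj Z) →ₗ[A.obj Z] (Q.obj Z →₀ M.obj Z) :=
  Finsupp.lsum ℕ fun b : P.obj Z ⊕ Q.obj Z => Sum.elim (fun _ => 0) (fun p => Finsupp.lsingle p) b

/-- The first projection. -/
def fstP (P Q : Cᵒᵖ ⥤ Type (u + 1)) : func (A := A) (sumP P Q) ⟶ func P where
  app M :=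
    { app := fun Z => ModuleCat.ofHom (fstApp M P Q Z)
      naturality := fun {Y Z} g => by
        refine hom_ext' fun b m => ?_
        refine (congrArg (fstApp M P Q Z) (trans_single (sumP P Q) M g b m)).trans ?_
        refine Eq.trans ?_ (congrArg (trans P M g) (Finsupp.lsum_single ℕ _ b m)).symm
        refine (Finsupp.lsum_single ℕ _ _ _).trans ?_
        rcases b with p | q
        · exact (trans_single P M g p m).symm
        · exact (map_zero (trans P M g)).symm }
  naturality M N f := PresheafOfModules.hom_ext fun Z => hom_ext' fun b m => by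
    refine (congrArg (fstApp N P Q Z) (map_apply (sumP P Q) f Z b m)).trans ?_
    refine Eq.trans ?_ (congrArg ((Copower.map P f).app Z) (Finsupp.lsum_single ℕ _ b m)).symm
    refine (Finsupp.lsum_single ℕ _ _ _).trans ?_
    rcases b with p | q
    · exact (map_apply P f Z p m).symm
    · exact (map_zero ((Copower.map P f).app Z).hom).symm

/-- The second projection. -/
def sndP (P Q : Cᵒᵖ ⥤ Type (u + 1)) : func (A := A) (sumP P Q) ⟶ func Q where
  app M :=
    { app := fun Z => ModuleCat.ofHom (sndApp M P Q Z)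
      naturality := fun {Y Z} g => by
        refine hom_ext' fun b m => ?_
        refine (congrArg (sndApp M P Q Z) (trans_single (sumP P Q) M g b m)).trans ?_
        refine Eq.trans ?_ (congrArg (trans Q M g) (Finsupp.lsum_single ℕ _ b m)).symm
        refine (Finsupp.lsum_single ℕ _ _ _).trans ?_
        rcases b with p | q
        · exact (map_zero (trans Q M g)).symm
        · exact (trans_single Q M g q m).symm }
  naturality M N f := PresheafOfModules.hom_ext fun Z => hom_ext' fun b m => by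
    refine (congrArg (sndApp N P Q Z) (map_apply (sumP P Q) f Z b m)).trans ?_
    refine Eq.trans ?_ (congrArg ((Copower.map Q f).app Z) (Finsupp.lsum_single ℕ _ b m)).symm
    refine (Finsupp.lsum_single ℕ _ _ _).trans ?_
    rcases b with p | q
    · exact (map_zero ((Copower.map Q f).app Z).hom).symm
    · exact (map_apply Q f Z q m).symm

theorem sum_total (P Q : Cᵒᵖ ⥤ Type (u + 1)) :
    fstP (A := A) P Q ≫ idx (sumInl P Q) + sndP P Q ≫ idx (sumInr P Q) = 𝟙 _ := by
  refine NatTrans.ext (funext fun M => PresheafOfModules.hom_ext fun Z => hom_ext' fun b m => ?_)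
  change Finsupp.mapDomain Sum.inl (fstApp M P Q Z (Finsupp.single b m)) +
    Finsupp.mapDomain Sum.inr (sndApp M P Q Z (Finsupp.single b m)) = Finsupp.single b m
  simp only [fstApp, sndApp, Finsupp.lsum_single]
  rcases b with p | q
  · simp
  · simp

/-- Restriction of a section of a module, typed at the smaller object. -/
def mres {Y Z : Cᵒᵖ} (g : Y ⟶ Z) (m : M.obj Y) : M.obj Z := M.map g m

/-- The transition map as an additive map of finitely supported functions. -/
def trA (P : Cᵒᵖ ⥤ Type (u + 1)) {Y Z : Cᵒᵖ} (g : Y ⟶ Z) : (P.obj Y →₀ M.obj Y) →+ (P.obj Z →₀ M.obj Z) where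
  toFun x := trans P M g x
  map_zero' := map_zero (trans P M g)
  map_add' := map_add (trans P M g)

theorem trA_single (P : Cᵒᵖ ⥤ Type (u + 1)) {Y Z : Cᵒᵖ} (g : Y ⟶ Z) (p : P.obj Y) (m : M.obj Y) :
    trA M P g (Finsupp.single p m) = Finsupp.single (P.map g p) (mres M g m) := trans_single P M g p m

theorem trA_comp (P : Cᵒᵖ ⥤ Type (u + 1)) {Y Z Z' : Cᵒᵖ} (g : Y ⟶ Z) (h : Z ⟶ Z') (x : P.obj Y →₀ M.obj Y) :
    trA M P (g ≫ h) x = trA M P h (trA M P g x) := by
  induction x using Finsupp.induction_linear with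
  | zero => simp only [map_zero]
  | add a b ha hb => simp only [map_add, ha, hb]
  | single p m =>
    rw [trA_single, trA_single, trA_single, P.map_comp]
    exact congrArg (Finsupp.single _) (M.map_comp_apply g h m)

theorem trA_mapDomain {P P' : Cᵒᵖ ⥤ Type (u + 1)} (τ : P ⟶ P') {Y Z : Cᵒᵖ} (g : Y ⟶ Z) (x : P.obj Y →₀ M.obj Y) :
    trA M P' g (Finsupp.mapDomain (τ.app Y) x) = Finsupp.mapDomain (τ.app Z) (trA M P g x) := by
  induction x using Finsupp.induction_linear with
  | zero => simp only [Finsupp.mapDomain_zero, map_zero]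
  | add a b ha hb => simp only [Finsupp.mapDomain_add, map_add, ha, hb]
  | single p m =>
    rw [Finsupp.mapDomain_single, trA_single, trA_single, Finsupp.mapDomain_single]
    exact congrArg (Finsupp.single · _) (ConcreteCategory.congr_hom (τ.naturality g) p).symm

theorem exists_of_trA_ne_zero (P : Cᵒᵖ ⥤ Type (u + 1)) {Y Z : Cᵒᵖ} (g : Y ⟶ Z) (x : P.obj Y →₀ M.obj Y)
    (d : P.obj Z) (h : trA M P g x d ≠ 0) : ∃ a, x a ≠ 0 ∧ P.map g a = d := by
  classical
  obtain ⟨a, ha, had⟩ := Finset.mem_image.1 (Finsupp.mapDomain_support (Finsupp.mem_support_iff.2 h))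
  exact ⟨a, Finsupp.mem_support_iff.1 (Finsupp.support_mapRange ha), had⟩

end Gen

section Weight

variable {α β α' β' A A' : Type*} [AddCommGroup A] [AddCommGroup A']

/-- The number of right components. -/
def rwt (x : α ⊕ β →₀ A) : ℕ :=
  (x.support.filter fun b => b.isRight).card

theorem rwt_lt_of_collision {x : α ⊕ β →₀ A} {x₁ : α' ⊕ β' →₀ A'} {ra : α → α'} {rb : β → β'}
    (h : ∀ d, x₁ d ≠ 0 → ∃ a, x a ≠ 0 ∧ Sum.map ra rb a = d) {a b : β} (ha : x (Sum.inr a) ≠ 0)
    (hb : x (Sum.inr b) ≠ 0) (hne : a ≠ b) (hab : rb a = rb b) : rwt x₁ < rwt x := by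
  classical
  let S₀ := x.support.filter fun b => b.isRight
  have hsub : (x₁.support.filter fun b => b.isRight) ⊆ (S₀.erase (Sum.inr a)).image (Sum.map ra rb) := by
    intro d hd
    rw [Finset.mem_filter, Finsupp.mem_support_iff] at hd
    obtain ⟨c, hc, rfl⟩ := h d hd.1
    rw [Finset.mem_image]
    by_cases e : c = Sum.inr a
    · subst e
      refine ⟨Sum.inr b, ?_, ?_⟩
      · simp [S₀, hb, hne.symm]
      · simp [hab]
    · refine ⟨c, ?_, rfl⟩
      rcases c with c | c
      · simp at hd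
      · simp [S₀, hc, e]
  refine lt_of_le_of_lt ((Finset.card_le_card hsub).trans Finset.card_image_le) (Finset.card_erase_lt_of_mem ?_)
  simp [S₀, ha]

theorem rwt_lt_of_move {x : α ⊕ β →₀ A} {x₁ : α' ⊕ β' →₀ A'} {ra : α → α'} {rb : β → β'}
    (h : ∀ d, x₁ d ≠ 0 → ∃ a, x a ≠ 0 ∧ Sum.map ra rb a = d) {v : β} (hv : x (Sum.inr v) ≠ 0) (u : α') :
    rwt (x₁ + (Finsupp.single (Sum.inl u) (x₁ (Sum.inr (rb v))) -
      Finsupp.single (Sum.inr (rb v)) (x₁ (Sum.inr (rb v))))) < rwt x := by
  classical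
  set x₂ := x₁ + (Finsupp.single (Sum.inl u) (x₁ (Sum.inr (rb v))) -
      Finsupp.single (Sum.inr (rb v)) (x₁ (Sum.inr (rb v)))) with hx₂
  let S₀ := x.support.filter fun b => b.isRight
  have hsub : (x₂.support.filter fun b => b.isRight) ⊆ (S₀.image (Sum.map ra rb)).erase (Sum.inr (rb v)) := by
    intro d hd
    rw [Finset.mem_filter, Finsupp.mem_support_iff] at hd
    rcases d with d | d
    · simp at hd
    have hne : d ≠ rb v := by
      rintro rfl
      exact hd.1 (by simp [hx₂])
    have h1 : x₁ (Sum.inr d) ≠ 0 := fun h0 => hd.1 (by simp [hx₂, h0, hne])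
    obtain ⟨c, hc, hcd⟩ := h _ h1
    rw [Finset.mem_erase, Finset.mem_image]
    refine ⟨by simp [hne], c, ?_, hcd⟩
    rcases c with c | c
    · simp at hcd
    · simp [S₀, hc]
  refine lt_of_le_of_lt (Finset.card_le_card hsub) (lt_of_lt_of_le (Finset.card_erase_lt_of_mem ?_) Finset.card_image_le)
  exact Finset.mem_image.2 ⟨Sum.inr v, by simp [S₀, hv], rfl⟩

end Weight

section MV

variable {S : Scheme.{u}} {X : Space S} {W U V UV : EtSpOver X} (j : U ⟶ W) (f : V ⟶ W) (p : UV ⟶ U) (q : UV ⟶ V)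
  (hsq : IsElemDistSq j.hom.left.hom f.hom.left.hom)
  (hpb : IsPullback p.hom.left.hom q.hom.left.hom j.hom.left.hom f.hom.left.hom)
  {T₀ : Over S} (e : (yon S).obj T₀ ≅ V.obj.left.obj)

/-- The first map, on presheaves. -/
def dP : func (A := (OEtRing X.obj).obj) (PW UV) ⟶ func (sumP (PW U) (PW V)) :=
  idx (PWmap p ≫ sumInl _ _) - idx (PWmap q ≫ sumInr _ _)

/-- The second map, on presheaves. -/
def gP : func (A := (OEtRing X.obj).obj) (sumP (PW U) (PW V)) ⟶ func (PW W) :=
  idx (sumDesc (PWmap j) (PWmap f))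

variable (M : PresheafOfModules.{u + 1} (OEtRing X.obj).obj)

/-- The first map on finitely supported functions. -/
def dA (Z : (EtOver X.obj)ᵒᵖ) :
    ((PW UV).obj Z →₀ M.obj Z) →+ ((sumP (PW U) (PW V)).obj Z →₀ M.obj Z) :=
  Finsupp.mapDomain.addMonoidHom ((PWmap p ≫ sumInl (PW U) (PW V)).app Z) -
    Finsupp.mapDomain.addMonoidHom ((PWmap q ≫ sumInr (PW U) (PW V)).app Z)

theorem dP_apply (Z : (EtOver X.obj)ᵒᵖ) (x : (PW UV).obj Z →₀ M.obj Z) :
    ((dP p q).app M).app Z x = dA p q M Z x := rfl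

theorem dA_single (Z : (EtOver X.obj)ᵒᵖ) (x : (PW UV).obj Z) (m : M.obj Z) :
    dA p q M Z (Finsupp.single x m) =
      Finsupp.single (α := (sumP (PW U) (PW V)).obj Z) (Sum.inl ((PWmap p).app Z x)) m -
        Finsupp.single (α := (sumP (PW U) (PW V)).obj Z) (Sum.inr ((PWmap q).app Z x)) m := by
  simp only [dA, AddMonoidHom.sub_apply, Finsupp.mapDomain.addMonoidHom_apply, Finsupp.mapDomain_single]
  rfl

theorem trA_dA {Y Z : (EtOver X.obj)ᵒᵖ} (g : Y ⟶ Z) (x : (PW UV).obj Y →₀ M.obj Y) :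
    trA M (sumP (PW U) (PW V)) g (dA p q M Y x) = dA p q M Z (trA M (PW UV) g x) := by
  simp only [dA, AddMonoidHom.sub_apply, Finsupp.mapDomain.addMonoidHom_apply, map_sub]
  rw [trA_mapDomain, trA_mapDomain]

include hpb in
theorem dP_gP : (dP p q).app M ≫ (gP j f).app M = 0 := by
  have h : dP (X := X) p q ≫ gP j f = 0 := by
    rw [dP, gP, Preadditive.sub_comp, ← idx_comp, ← idx_comp, Category.assoc, Category.assoc, sumInl_desc,
      sumInr_desc, pw_comm j f p q hpb, sub_self]
  exact congr_app h M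

include hsq hpb in
theorem injective_dP (Z : (EtOver X.obj)ᵒᵖ) : Function.Injective (((dP p q).app M).app Z) := by
  have hq : Function.Injective ((PWmap q).app Z) := fun a b h => by
    haveI : Mono j.hom.left.hom := AlgSpLib.mono_of_openImmersion hsq.1
    have h' : a.1 ≫ q.hom.left.hom = b.1 ≫ q.hom.left.hom := congrArg Subtype.val h
    refine pw_ext (hpb.hom_ext ?_ h')
    rw [← cancel_mono j.hom.left.hom, Category.assoc, Category.assoc, hpb.w, ← Category.assoc, h', Category.assoc]
  have hq' : Function.Injective ((PWmap q ≫ sumInr (PW U) (PW V)).app Z) := fun a b h =>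
    hq (Sum.inr_injective h)
  have key : ∀ (x : (PW UV).obj Z →₀ M.obj Z) (z : (PW UV).obj Z),
      dA p q M Z x ((PWmap q ≫ sumInr (PW U) (PW V)).app Z z) = - x z := by
    intro x z
    simp only [dA, AddMonoidHom.sub_apply, Finsupp.mapDomain.addMonoidHom_apply, Finsupp.sub_apply]
    have h0 : Finsupp.mapDomain ((PWmap p ≫ sumInl (PW U) (PW V)).app Z) x
        ((PWmap q ≫ sumInr (PW U) (PW V)).app Z z) = 0 := by
      refine Finsupp.mapDomain_notin_range _ _ ?_
      rintro ⟨y, hy⟩
      exact Sum.inl_ne_inr hy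
    rw [h0, Finsupp.mapDomain_apply hq', zero_sub]
  intro x y h
  have h' : dA p q M Z x = dA p q M Z y := h
  exact Finsupp.ext fun z => neg_injective ((key x z).symm.trans ((DFunLike.congr_fun h' _).trans (key y z)))

include hsq e in
theorem imageSieve_gP (Z : EtOver X.obj) (y : (PW W).obj (op Z) →₀ M.obj (op Z)) :
    Presheaf.imageSieve ((PresheafOfModules.toPresheaf _).map ((gP j f).app M)) (U := Z) y ∈ etTop X.obj Z := by
  let g := fun Z' : EtOver X.obj => (sumDesc (PWmap j) (PWmap f)).app (op Z')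
  induction y using Finsupp.induction_linear with
  | zero =>
    refine (etTop X.obj).superset_covering ?_ ((etTop X.obj).top_mem Z)
    intro Z' k _
    exact (show ∃ s : (sumP (PW U) (PW V)).obj (op Z') →₀ M.obj (op Z'),
      Finsupp.mapDomain (g Z') s = trA M (PW W) k.op (0 : (PW W).obj (op Z) →₀ M.obj (op Z)) from
      ⟨0, by rw [Finsupp.mapDomain_zero, map_zero]⟩)
  | add a b ha hb =>
    refine (etTop X.obj).superset_covering ?_ ((etTop X.obj).intersection_covering ha hb)
    rintro Z' k ⟨h1, h2⟩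
    obtain ⟨s, hs⟩ := (show ∃ s : (sumP (PW U) (PW V)).obj (op Z') →₀ M.obj (op Z'),
      Finsupp.mapDomain (g Z') s = trA M (PW W) k.op a from h1)
    obtain ⟨t, ht⟩ := (show ∃ s : (sumP (PW U) (PW V)).obj (op Z') →₀ M.obj (op Z'),
      Finsupp.mapDomain (g Z') s = trA M (PW W) k.op b from h2)
    exact (show ∃ s : (sumP (PW U) (PW V)).obj (op Z') →₀ M.obj (op Z'),
      Finsupp.mapDomain (g Z') s = trA M (PW W) k.op (a + b) from
      ⟨s + t, by rw [Finsupp.mapDomain_add, map_add, hs, ht]⟩)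
  | single w m =>
    choose Z' k hk hlift using pw_lift j f hsq e Z w
    refine (etTop X.obj).superset_covering ?_ (AlgSp.ofArrows_mem_etTop Z' k fun t => ⟨t, hk t⟩)
    rw [Sieve.generate_le_iff]
    rintro _ _ ⟨t⟩
    refine (show ∃ s : (sumP (PW U) (PW V)).obj (op (Z' t)) →₀ M.obj (op (Z' t)),
      Finsupp.mapDomain (g (Z' t)) s = trA M (PW W) (k t).op (Finsupp.single w m) from ?_)
    rcases hlift t with ⟨u, hu⟩ | ⟨v, hv⟩
    · exact ⟨Finsupp.single (Sum.inl u) (mres M (k t).op m), by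
        rw [Finsupp.mapDomain_single, trA_single]; exact congrArg (Finsupp.single · _) hu⟩
    · exact ⟨Finsupp.single (Sum.inr v) (mres M (k t).op m), by
        rw [Finsupp.mapDomain_single, trA_single]; exact congrArg (Finsupp.single · _) hv⟩

include hsq hpb e in
theorem exists_local_preimage : ∀ (n : ℕ) (Z : EtOver X.obj) (x : (sumP (PW U) (PW V)).obj (op Z) →₀ M.obj (op Z)),
    rwt (α := (PW U).obj (op Z)) (β := (PW V).obj (op Z)) x ≤ n →
    Finsupp.mapDomain ((sumDesc (PWmap j) (PWmap f)).app (op Z)) x = 0 → ∀ t : Z.obj.left.left,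
      ∃ (Z' : EtOver X.obj) (k : Z' ⟶ Z), t ∈ Set.range k.hom.left.left ∧
        ∃ c, dA p q M (op Z') c = trA M (sumP (PW U) (PW V)) k.op x := by
  intro n
  induction n using Nat.strong_induction_on with
  | _ n ih =>
    intro Z x hn hx t
    let g := fun Z' : EtOver X.obj => (sumDesc (PWmap j) (PWmap f)).app (op Z')
    by_cases hinj : Set.InjOn (g Z) (x.support : Set ((sumP (PW U) (PW V)).obj (op Z)))
    · have hx0 : x = 0 := by
        refine Finsupp.mapDomain_injOn (x.support : Set _) hinj (fun _ h => h) (by simp) ?_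
        rw [Finsupp.mapDomain_zero]
        exact hx
      refine ⟨Z, 𝟙 Z, ⟨t, rfl⟩, 0, ?_⟩
      rw [hx0, map_zero, map_zero]
    have hres : ∀ {Z' : EtOver X.obj} (k : Z' ⟶ Z),
        Finsupp.mapDomain (g Z') (trA M (sumP (PW U) (PW V)) k.op x) = 0 := fun k => by
      rw [← trA_mapDomain, hx, map_zero]
    have stepA : ∀ (Z' : EtOver X.obj) (k : Z' ⟶ Z) (t' : Z'.obj.left.left), k.hom.left.left t' = t →
        ∀ (u : (PW U).obj (op Z')) (v : (PW V).obj (op Z)), x (Sum.inr v) ≠ 0 →
        (PWmap j).app (op Z') u = (PW W).map k.op ((PWmap f).app (op Z) v) →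
        ∃ (Z'' : EtOver X.obj) (k' : Z'' ⟶ Z), t ∈ Set.range k'.hom.left.left ∧
          ∃ c, dA p q M (op Z'') c = trA M (sumP (PW U) (PW V)) k'.op x := by
      intro Z' k t' ht' u v hv hu
      have hw : (PWmap j).app (op Z') u = (PWmap f).app (op Z') ((PW V).map k.op v) :=
        hu.trans (ConcreteCategory.congr_hom ((PWmap f).naturality k.op) v).symm
      obtain ⟨y, hy₁, hy₂⟩ := pw_pullback j f p q hpb (op Z') u _ hw
      let x₁ := trA M (sumP (PW U) (PW V)) k.op x
      let b₀ : (sumP (PW U) (PW V)).obj (op Z') := Sum.inr ((PW V).map k.op v)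
      let y₀ : (PW UV).obj (op Z') →₀ M.obj (op Z') := Finsupp.single y (x₁ b₀)
      let x₂ := x₁ + dA p q M (op Z') y₀
      have hd : dA p q M (op Z') y₀ = Finsupp.single (α := (sumP (PW U) (PW V)).obj (op Z')) (Sum.inl u) (x₁ b₀) -
          Finsupp.single b₀ (x₁ b₀) := by
        rw [dA_single, hy₁, hy₂]
      have hg : Finsupp.mapDomain (g Z') x₂ = 0 := by
        have h2 : Finsupp.mapDomain (g Z') (dA p q M (op Z') y₀) = 0 := by
          rw [hd]
          refine (map_sub (Finsupp.mapDomain.addMonoidHom (M := M.obj (op Z')) (g Z')) _ _).trans ?_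
          rw [Finsupp.mapDomain.addMonoidHom_apply, Finsupp.mapDomain.addMonoidHom_apply, Finsupp.mapDomain_single,
            Finsupp.mapDomain_single, sub_eq_zero]
          exact congrArg (Finsupp.single · _) hw
        rw [Finsupp.mapDomain_add, h2, hres, add_zero]
      have hw2 : rwt (α := (PW U).obj (op Z')) (β := (PW V).obj (op Z')) x₂ <
          rwt (α := (PW U).obj (op Z)) (β := (PW V).obj (op Z)) x :=
        lt_of_eq_of_lt (congrArg (rwt (α := (PW U).obj (op Z')) (β := (PW V).obj (op Z')))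
            (congrArg (x₁ + ·) hd))
          (rwt_lt_of_move (α := (PW U).obj (op Z)) (β := (PW V).obj (op Z)) (α' := (PW U).obj (op Z'))
            (β' := (PW V).obj (op Z')) (x := x) (x₁ := x₁) (ra := (PW U).map k.op) (rb := (PW V).map k.op)
            (exists_of_trA_ne_zero M (sumP (PW U) (PW V)) k.op x) hv u)
      obtain ⟨Z'', k', ⟨t'', ht''⟩, c, hc⟩ := ih _ (lt_of_lt_of_le hw2 hn) Z' x₂ le_rfl hg t'
      refine ⟨Z'', k' ≫ k, ⟨t'', ?_⟩, c - trA M (PW UV) k'.op y₀, ?_⟩
      · rw [← ht', ← ht'']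
        rfl
      · rw [map_sub, hc, ← trA_dA, ← map_sub, show x₂ - dA p q M (op Z') y₀ = x₁ from add_sub_cancel_right _ _,
          op_comp, trA_comp]
    simp only [Set.InjOn, not_forall, exists_prop] at hinj
    obtain ⟨a, ha, b, hb, hab, hne⟩ := hinj
    have ha' : x a ≠ 0 := Finsupp.mem_support_iff.1 ha
    have hb' : x b ≠ 0 := Finsupp.mem_support_iff.1 hb
    rcases a with a | a <;> rcases b with b | b
    · exact absurd (congrArg Sum.inl (pw_injective_open j f hsq (op Z) hab)) hne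
    · exact stepA Z (𝟙 Z) t rfl a b hb' (hab.trans (ConcreteCategory.congr_hom ((PW W).map_id _) _).symm)
    · exact stepA Z (𝟙 Z) t rfl b a ha' (hab.symm.trans (ConcreteCategory.congr_hom ((PW W).map_id _) _).symm)
    · obtain ⟨Z', k, ⟨t', ht'⟩, h | ⟨u, hu⟩⟩ := pw_agree j f hsq e Z a b hab t
      swap
      · exact stepA Z' k t' ht' u a ha' hu
      have hw1 : rwt (α := (PW U).obj (op Z')) (β := (PW V).obj (op Z')) (trA M (sumP (PW U) (PW V)) k.op x) <
          rwt (α := (PW U).obj (op Z)) (β := (PW V).obj (op Z)) x :=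
        rwt_lt_of_collision (α := (PW U).obj (op Z)) (β := (PW V).obj (op Z)) (α' := (PW U).obj (op Z'))
          (β' := (PW V).obj (op Z')) (x := x) (ra := (PW U).map k.op) (rb := (PW V).map k.op)
          (exists_of_trA_ne_zero M (sumP (PW U) (PW V)) k.op x) ha' hb' (fun e' => hne (congrArg Sum.inr e')) h
      obtain ⟨Z'', k', ⟨t'', ht''⟩, c, hc⟩ := ih _ (lt_of_lt_of_le hw1 hn) Z' _ le_rfl (hres k) t'
      refine ⟨Z'', k' ≫ k, ⟨t'', ?_⟩, c, ?_⟩
      · rw [← ht', ← ht'']
        rfl
      · rw [hc, op_comp, trA_comp]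

/-- The first map. -/
abbrev dT : TP (OEtRing X.obj) (PW UV) ⟶ TP (OEtRing X.obj) (sumP (PW U) (PW V)) :=
  Functor.whiskerLeft _ (Functor.whiskerRight (dP p q) _)

/-- The second map. -/
abbrev gT : TP (OEtRing X.obj) (sumP (PW U) (PW V)) ⟶ TP (OEtRing X.obj) (PW W) :=
  Functor.whiskerLeft _ (Functor.whiskerRight (gP j f) _)

theorem epi_sheafify_of_locally {P Q : PresheafOfModules.{u + 1} (OEtRing X.obj).obj} (φ : P ⟶ Q)
    (h : ∀ (Z : EtOver X.obj) (s : Q.obj (op Z)), Presheaf.imageSieve ((PresheafOfModules.toPresheaf _).map φ) (U := Z) s ∈ etTop X.obj Z) :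
    Epi ((PresheafOfModules.sheafification (R₀ := (OEtRing X.obj).obj) (𝟙 (OEtRing X.obj).obj)).map φ) := by
  haveI : Presheaf.IsLocallySurjective (etTop X.obj) ((PresheafOfModules.toPresheaf _).map φ) := ⟨fun s => h _ s⟩
  refine (SheafOfModules.toSheaf _).epi_of_epi_map ?_
  refine (Sheaf.isLocallySurjective_iff_epi' _ _).1 ?_
  exact (Presheaf.isLocallySurjective_presheafToSheaf_map_iff _ ((PresheafOfModules.toPresheaf _).map φ)).2 ‹_›

include hsq hpb e in
/-- The Mayer-Vietoris sequence of copowers is short exact. -/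
theorem exists_shortExact (N : ModEt X.obj) :
    ∃ h : (dT p q).app N ≫ (gT j f).app N = 0, (ShortComplex.mk _ _ h).ShortExact := by
  let a := PresheafOfModules.sheafification.{u + 1} (R₀ := (OEtRing X.obj).obj) (𝟙 (OEtRing X.obj).obj)
  haveI : a.IsLeftAdjoint := (PresheafOfModules.sheafificationAdjunction (R₀ := (OEtRing X.obj).obj) (𝟙 (OEtRing X.obj).obj)).isLeftAdjoint
  haveI : PreservesBinaryBiproducts a := preservesBinaryBiproducts_of_preservesBinaryCoproducts _
  haveI : a.Additive := Functor.additive_of_preservesBinaryBiproducts _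
  haveI : PreservesFiniteLimits a := inferInstance
  let M := N.val
  let T₀ := ShortComplex.mk ((dP p q).app M) ((gP j f).app M) (dP_gP j f p q hpb M)
  have hz : (dT p q).app N ≫ (gT j f).app N = 0 := by
    change a.map ((dP p q).app M) ≫ a.map ((gP j f).app M) = 0
    rw [← a.map_comp, dP_gP j f p q hpb M, a.map_zero]
  refine ⟨hz, ?_⟩
  haveI : Mono ((dP p q).app M) := PresheafOfModules.mono_of_injective fun Z => injective_dP j f p q hsq hpb M Z
  haveI : Mono (a.map ((dP p q).app M)) := inferInstance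
  haveI : Epi (a.map ((gP j f).app M)) := epi_sheafify_of_locally _ fun Z s => imageSieve_gP j f hsq e M Z s
  refine ShortComplex.ShortExact.mk' ?_ ‹_› ‹_›
  let l := kernel.lift T₀.g T₀.f T₀.zero
  haveI : Epi (a.map l) := by
    refine epi_sheafify_of_locally _ fun Z s => ?_
    have hs0 : T₀.g.app (op Z) ((kernel.ι T₀.g).app (op Z) s) = 0 :=
      ConcreteCategory.congr_hom (congrArg (fun φ : kernel T₀.g ⟶ T₀.X₃ => φ.app (op Z)) (kernel.condition T₀.g)) s
    choose Z' k hk c hc using fun t => exists_local_preimage j f p q hsq hpb e M _ Z ((kernel.ι T₀.g).app (op Z) s)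
      le_rfl hs0 t
    refine (etTop X.obj).superset_covering ?_ (AlgSp.ofArrows_mem_etTop Z' k fun t => ⟨t, hk t⟩)
    rw [Sieve.generate_le_iff]
    rintro _ _ ⟨t⟩
    refine ⟨c t, PresheafOfModules.injective_of_mono (kernel.ι T₀.g) (op (Z' t)) ?_⟩
    refine (ConcreteCategory.congr_hom (congrArg (fun φ : T₀.X₁ ⟶ T₀.X₂ => φ.app (op (Z' t))) (kernel.lift_ι T₀.g T₀.f T₀.zero)) (c t)).trans ?_
    exact (hc t).trans (PresheafOfModules.naturality_apply (kernel.ι T₀.g) (k t).op s).symm
  let K := ShortComplex.mk (kernel.ι T₀.g) T₀.g (kernel.condition _)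
  have hK : (K.map a).Exact :=
    (ShortComplex.exact_kernel T₀.g).map_of_mono_of_preservesKernel _ inferInstance inferInstance
  let φ : T₀.map a ⟶ K.map a :=
    { τ₁ := a.map l
      τ₂ := 𝟙 _
      τ₃ := 𝟙 _
      comm₁₂ := by
        change a.map l ≫ a.map (kernel.ι T₀.g) = a.map T₀.f ≫ 𝟙 _
        rw [← a.map_comp, kernel.lift_ι, Category.comp_id]
      comm₂₃ := by
        change 𝟙 _ ≫ a.map T₀.g = a.map T₀.g ≫ 𝟙 _
        rw [Category.id_comp, Category.comp_id] }
  haveI : Epi φ.τ₁ := ‹Epi (a.map l)›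
  haveI : IsIso φ.τ₂ := inferInstanceAs (IsIso (𝟙 _))
  haveI : Mono φ.τ₃ := inferInstanceAs (Mono (𝟙 _))
  exact (ShortComplex.exact_iff_of_epi_of_isIso_of_mono φ).2 hK

end MV

end Groth.Agent.AlgSpPerfLib
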