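import Groth.Agent.AlgSpRlimLib.Acyclic
import Groth.Agent.AlgSpCohColimLib.Colim

/-!
# Cech exactness of injective modules on the nerve of an atlas over an added terminal object
-/

set_option autoImplicit false
set_option linter.unusedSectionVars false
set_option linter.style.haveILetI false
set_option backward.isDefEq.respectTransparency false
set_option backward.isDefEq.respectTransparency.types false
set_option maxHeartbeats 1000000
set_option synthInstance.maxHeartbeats 200000

universe u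

open CategoryTheory CategoryTheory.Limits AlgebraicGeometry Opposite AlgSp
open Groth.Agent Groth.Agent.AlgSpRlimLib ModEtInjLib AlgSpCohColim

noncomputable section

namespace Groth.Agent.AlgSpPerfLib

variable {S : Scheme.{u}} {X : Sp S} {U : Over S} (p : (yon S).obj U ⟶ X) (hp : RepWith @Etale p)
  (R : (EtOver X)ᵒᵖ ⥤ RingCat.{u + 1})

/-- A map to a power, seen in the site with a terminal object. -/
abbrev up₀ {V : EtOver X} {n : ℕ} (x : V ⟶ pw p hp n) :
    (inc (C := EtOver X)).obj V ⟶ (nerve p hp).obj n :=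
  (inc (C := EtOver X)).map x

/-- The free module on a power. -/
abbrev QT (n : ℕ) : PresheafOfModules.{u + 1} R := freeAt R (op (pw p hp n))

/-- A generator. -/
def genT {n : ℕ} {V : EtOver X} (x : V ⟶ pw p hp n) : (QT p hp R n).obj (op V) :=
  ULift.up (Finsupp.single x.op 1)

/-- The face maps of the powers. -/
def fcT (n : ℕ) (i : Fin (n + 2)) : pw p hp (n + 1) ⟶ pw p hp n :=
  WithTerminal.down ((nerve p hp).face n i)

/-- The map of free abelian presheaves to the free modules. -/
def iotaT (n : ℕ) (V : EtOver X) :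
    (EpsLib.Q (nerve p hp) n).obj (op ((inc (C := EtOver X)).obj V)) →+ ((QT p hp R n).obj (op V) : Type (u + 1)) :=
  FreeAbelianGroup.lift fun x => genT p hp R (WithTerminal.down x.down)

theorem iotaT_gen {n : ℕ} {V : EtOver X} (x : V ⟶ pw p hp n) :
    iotaT p hp R n V (EpsLib.gen (nerve p hp) (up₀ p hp x)) = genT p hp R x :=
  FreeAbelianGroup.lift_apply_of _ _

/-- The boundary. -/
def bdT (n : ℕ) : QT p hp R (n + 1) ⟶ QT p hp R n :=
  ∑ i : Fin (n + 2), ((-1 : ℤ) ^ (i : ℕ)) • freeAtDesc R (op (pw p hp (n + 1))) (genT p hp R (fcT p hp n i))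

theorem bdT_genT (n : ℕ) {V : EtOver X} (x : V ⟶ pw p hp (n + 1)) :
    (bdT p hp R n).app (op V) (genT p hp R x) =
      ∑ i : Fin (n + 2), ((-1 : ℤ) ^ (i : ℕ)) • genT p hp R (x ≫ fcT p hp n i) := by
  let ev : (QT p hp R (n + 1) ⟶ QT p hp R n) →+ ((QT p hp R n).obj (op V) : Type (u + 1)) :=
    AddMonoidHom.mk' (fun φ => φ.app (op V) (genT p hp R x)) fun _ _ => rfl
  show ev _ = _
  rw [bdT, map_sum]
  refine Finset.sum_congr rfl fun i _ => ?_
  rw [map_zsmul]
  refine congrArg (((-1 : ℤ) ^ (i : ℕ)) • ·) ?_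
  show (freeAtDesc R _ _).app (op V) (ULift.up (Finsupp.single x.op 1)) = _
  rw [freeAtDesc_single, one_smul]
  exact freeAt_map_single _ x.op (fcT p hp n i).op

theorem bdT_iota (n : ℕ) {V : EtOver X}
    (z : (EpsLib.Q (nerve p hp) (n + 1)).obj (op ((inc (C := EtOver X)).obj V))) :
    (bdT p hp R n).app (op V) (iotaT p hp R (n + 1) V z) =
      iotaT p hp R n V ((EpsLib.bd (nerve p hp) n).app _ z) := by
  have e : ((bdT p hp R n).app (op V)).hom.toAddMonoidHom.comp (iotaT p hp R (n + 1) V) =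
      (iotaT p hp R n V).comp ((EpsLib.bd (nerve p hp) n).app (op ((inc (C := EtOver X)).obj V))).hom := by
    refine FreeAbelianGroup.lift_ext _ _ fun x => ?_
    obtain ⟨x⟩ := x
    show (bdT p hp R n).app (op V) (iotaT p hp R (n + 1) V (EpsLib.gen (nerve p hp) (up₀ p hp (WithTerminal.down x)))) =
      iotaT p hp R n V ((EpsLib.bd (nerve p hp) n).app _ (EpsLib.gen (nerve p hp) x))
    rw [iotaT_gen, bdT_genT, EpsLib.bd_gen, map_sum]
    refine Finset.sum_congr rfl fun i _ => ?_
    rw [map_zsmul]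
    exact congrArg (((-1 : ℤ) ^ (i : ℕ)) • ·)
      (iotaT_gen p hp R (WithTerminal.down (x ≫ (nerve p hp).face n i))).symm
  exact DFunLike.congr_fun e z

section Homotopy

variable {V : EtOver X} (a₀ : V ⟶ e0 p hp)

/-- The linear contracting homotopy. -/
def homT (n : ℕ) : ((QT p hp R n).obj (op V) : Type (u + 1)) →ₗ[R.obj (op V)] ((QT p hp R (n + 1)).obj (op V) : Type (u + 1)) :=
  (Finsupp.linearCombination (R.obj (op V)) fun f : op (pw p hp n) ⟶ op V =>
    genT p hp R (WithTerminal.down (EpsLib.prep (nerve p hp) (fun _ => (inc (C := EtOver X)).map a₀)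
      (fun _ => WithTerminal.starTerminal.hom_ext _ _) n (up₀ p hp f.unop)))).comp ULift.moduleEquiv.toLinearMap

theorem homT_iota (n : ℕ) (z : (EpsLib.Q (nerve p hp) n).obj (op ((inc (C := EtOver X)).obj V))) :
    homT p hp R a₀ n (iotaT p hp R n V z) = iotaT p hp R (n + 1) V (EpsLib.hom' (nerve p hp)
      (fun _ => (inc (C := EtOver X)).map a₀) (fun _ => WithTerminal.starTerminal.hom_ext _ _) n z) := by
  have e : (homT p hp R a₀ n).toAddMonoidHom.comp (iotaT p hp R n V) =
      (iotaT p hp R (n + 1) V).comp (EpsLib.hom' (nerve p hp)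
        (fun _ => (inc (C := EtOver X)).map a₀) (fun _ => WithTerminal.starTerminal.hom_ext _ _) n) := by
    refine FreeAbelianGroup.lift_ext _ _ fun x => ?_
    obtain ⟨x⟩ := x
    show homT p hp R a₀ n (iotaT p hp R n V (EpsLib.gen (nerve p hp) (up₀ p hp (WithTerminal.down x)))) =
      iotaT p hp R (n + 1) V (EpsLib.hom' (nerve p hp) _ _ n (EpsLib.gen (nerve p hp) x))
    rw [iotaT_gen, EpsLib.hom'_gen]
    refine ((Finsupp.linearCombination_single _ _ _).trans (one_smul _ _)).trans ?_
    exact (iotaT_gen p hp R _).symm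
  exact DFunLike.congr_fun e z

theorem bdT_homT (n : ℕ) (z : (QT p hp R (n + 1)).obj (op V)) :
    (bdT p hp R (n + 1)).app (op V) (homT p hp R a₀ (n + 1) z) =
      z - homT p hp R a₀ n ((bdT p hp R n).app (op V) z) := by
  obtain ⟨z⟩ := z
  induction z using Finsupp.induction_linear with
  | zero =>
    rw [show (ULift.up (0 : (op (pw p hp (n + 1)) ⟶ op V) →₀ R.obj (op V))) = (0 : (QT p hp R (n + 1)).obj (op V)) from rfl]
    simp
  | add a b ha hb =>
    rw [show (ULift.up (a + b)) = ((ULift.up a : (QT p hp R (n + 1)).obj (op V)) + ULift.up b) from rfl]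
    rw [map_add, map_add, map_add, map_add, ha, hb, add_sub_add_comm]
  | single f r =>
    rw [show (ULift.up (Finsupp.single f r)) =
        r • (iotaT p hp R (n + 1) V (EpsLib.gen (nerve p hp) (up₀ p hp f.unop))) by
      rw [iotaT_gen]
      exact ULift.ext _ _ (Finsupp.smul_single_one f r).symm]
    rw [map_smul, map_smul, map_smul, map_smul, homT_iota, bdT_iota, bdT_iota, homT_iota, EpsLib.bd_hom',
      map_sub, smul_sub]

end Homotopy

theorem exists_bdT_eq (n : ℕ) {V : EtOver X} (z : (QT p hp R (n + 1)).obj (op V))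
    (hz : (bdT p hp R n).app (op V) z = 0) : ∃ w, (bdT p hp R (n + 1)).app (op V) w = z := by
  rcases isEmpty_or_nonempty (V ⟶ e0 p hp) with h | ⟨⟨a₀⟩⟩
  · haveI : IsEmpty (op (pw p hp (n + 1)) ⟶ op V) := ⟨fun x => h.elim (x.unop ≫ pwPr p hp _ 0)⟩
    haveI : Subsingleton ((QT p hp R (n + 1)).obj (op V)) :=
      inferInstanceAs (Subsingleton (ULift.{u + 1} ((op (pw p hp (n + 1)) ⟶ op V) →₀ R.obj (op V))))
    exact ⟨0, Subsingleton.elim _ _⟩
  · exact ⟨homT p hp R a₀ (n + 1) z, by rw [bdT_homT, hz, map_zero, sub_zero]⟩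

variable {R}

theorem el_bdT {n : ℕ} {P : PresheafOfModules.{u + 1} R} (φ : QT p hp R n ⟶ P) :
    φ.app (op (pw p hp (n + 1))) ((bdT p hp R n).app (op (pw p hp (n + 1))) (genT p hp R (𝟙 _))) =
      EpsLib.cechD (nerve p hp) (ext0 P.presheaf) n (φ.app (op (pw p hp n)) (genT p hp R (𝟙 _))) := by
  rw [bdT_genT, map_sum, EpsLib.cechD_apply]
  refine Finset.sum_congr rfl fun i _ => ?_
  rw [map_zsmul, Category.id_comp]
  refine congrArg (((-1 : ℤ) ^ (i : ℕ)) • ·) ?_
  refine Eq.trans ?_ (PresheafOfModules.naturality_apply φ (fcT p hp n i).op (genT p hp R (𝟙 _)))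
  refine congrArg (φ.app _) ?_
  exact ((freeAt_map_single _ (fcT p hp n i).op (𝟙 _)).trans
    (congrArg (fun m => ULift.up (Finsupp.single m 1)) (Category.id_comp _))).symm

/-- The augmented Cech complexes of an injective presheaf of modules are exact. -/
theorem hExact_star_injective_mod (P : PresheafOfModules.{u + 1} R) [Injective P] (n : ℕ) :
    EpsLib.HExact (nerve p hp) (ext0 P.presheaf) n := by
  intro x hx
  let φ : QT p hp R (n + 1) ⟶ P := freeAtDesc R (op (pw p hp (n + 1))) x
  have hφ : φ.app (op (pw p hp (n + 1))) (genT p hp R (𝟙 _)) = x := freeAtDesc_app R _ x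
  have h0 : bdT p hp R (n + 1) ≫ φ = 0 := by
    refine freeAt_hom_ext ?_
    show φ.app _ ((bdT p hp R (n + 1)).app _ (genT p hp R (𝟙 _))) = 0
    rw [el_bdT, hφ]
    exact hx
  have h1 : kernel.ι (bdT p hp R n) ≫ φ = 0 := by
    refine PresheafOfModules.hom_ext fun V => ?_
    ext z
    have hz : (bdT p hp R n).app V ((kernel.ι (bdT p hp R n)).app V z) = 0 :=
      ConcreteCategory.congr_hom (congr_arg (fun k => k.app V) (kernel.condition (bdT p hp R n))) z
    obtain ⟨w, hw⟩ := exists_bdT_eq p hp R n (V := V.unop) _ hz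
    show φ.app V ((kernel.ι (bdT p hp R n)).app V z) = 0
    rw [← hw]
    exact ConcreteCategory.congr_hom (congr_arg (fun k => k.app V) h0) w
  let g : Abelian.coimage (bdT p hp R n) ⟶ P := cokernel.desc (kernel.ι (bdT p hp R n)) φ h1
  let ψ := Injective.factorThru g (Abelian.factorThruCoimage (bdT p hp R n))
  refine ⟨ψ.app _ (genT p hp R (𝟙 _)), ?_⟩
  rw [← el_bdT]
  have e : bdT p hp R n ≫ ψ = φ := by
    refine (congrArg (· ≫ ψ) (Abelian.coimage.fac (bdT p hp R n)).symm).trans ?_
    rw [Category.assoc, Injective.comp_factorThru]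
    exact cokernel.π_desc _ _ _
  exact (ConcreteCategory.congr_hom (congrArg (fun k => k.app _) e) _).trans hφ

end Groth.Agent.AlgSpPerfLib
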