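import Groth.Agent.ModEtQcLib.Exact
import Groth.Agent.DerLib.ExactHomology
import Groth.Prelude.Def_AlgSpPerf

/-!
# Associated modules on a slice over an affine object, and strictly perfect complexes there
-/

set_option autoImplicit false
set_option linter.unusedSectionVars false
set_option linter.style.haveILetI false
set_option backward.isDefEq.respectTransparency false
set_option backward.isDefEq.respectTransparency.types false
set_option maxHeartbeats 1000000
set_option synthInstance.maxHeartbeats 200000

universe u

open CategoryTheory CategoryTheory.Limits AlgebraicGeometry Opposite AlgSp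
open scoped TensorProduct

noncomputable section

attribute [local instance] HasDerivedCategory.standard

namespace Groth.Agent.AlgSpPerfLib

open ModEtQc

variable {S : Scheme.{u}} {X : Sp S} {E₀ : EtOver X}

/-- The component of a map of modules on a slice, as an additive map. -/
def appA {G G' : ModEtOn E₀} (φ : G ⟶ G') (Z : Over E₀) : secP G.val Z →+ secP G'.val Z :=
  AddMonoidHom.mk' (fun x => appP φ.val Z x) (map_add (φ.val.app (op Z)).hom)

theorem injective_appA {G G' : ModEtOn E₀} (φ : G ⟶ G') [Mono φ] (Z : Over E₀) : Function.Injective (appA φ Z) :=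
  (ModuleCat.mono_iff_injective ((SheafOfModules.evaluation (OEtOn E₀) (op Z)).map φ)).1 inferInstance

theorem exact_appA {T : ShortComplex (ModEtOn E₀)} (hT : T.Exact) [Mono T.f] (Z : Over E₀) :
    Function.Exact (appA T.f Z) (appA T.g Z) := by
  have h := hT.map_of_mono_of_preservesKernel (SheafOfModules.evaluation (OEtOn E₀) (op Z)) inferInstance inferInstance
  exact (ShortComplex.ShortExact.moduleCat_exact_iff_function_exact _).1 h

theorem evalMap_natural {G G' : ModEtOn E₀} (φ : G ⟶ G') (Z : Over E₀)
    (t : Ring Z.left ⊗[Ring E₀] secP G.val (top E₀)) :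
    appP (evalMap G') Z (((Γt E₀).map φ).hom.lTensor (Ring Z.left) t) = appA φ Z (appP (evalMap G) Z t) := by
  induction t using TensorProduct.induction_on with
  | zero => exact (map_zero _).trans ((map_zero (appA φ Z)).symm.trans (congrArg _ (map_zero _).symm))
  | tmul r m =>
    rw [LinearMap.lTensor_tmul]
    change r • resP G'.val (toTop Z) (appP φ.val (top E₀) m) = appP φ.val Z (r • resP G.val (toTop Z) m)
    rw [appP_smul, appP_natural]
  | add x y hx hy =>
    rw [map_add]
    exact (map_add _ _ _).trans ((congr_arg₂ (· + ·) hx hy).trans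
      ((map_add _ _ _).symm.trans (congrArg _ (map_add _ _ _).symm)))

variable [IsAffine E₀.obj.left.left]

/-- A kernel of a map of associated modules is associated. -/
theorem isTilde_left {T : ShortComplex (ModEtOn E₀)} (hT : T.Exact) [Mono T.f] (h2 : IsTilde T.X₂)
    (h3 : IsTilde T.X₃) : IsTilde T.X₁ := by
  intro Z hZ
  haveI : IsAffine Z.left.obj.left.left := hZ
  have e2 := h2 Z hZ
  have e3 := h3 Z hZ
  haveI : Module.Flat (Ring E₀) (Ring Z.left) := RingHom.flat_algebraMap_iff.1 (flat_rho Z.hom)
  have hfT := Module.Flat.lTensor_preserves_injective_linearMap (M := Ring Z.left) ((Γt E₀).map T.f).hom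
    (injective_appA T.f (top E₀))
  have hexΓ : Function.Exact ((Γt E₀).map T.f).hom ((Γt E₀).map T.g).hom := exact_appA hT (top E₀)
  have hex := Module.Flat.lTensor_exact (Ring Z.left) hexΓ
  refine ⟨fun a b hab => hfT (e2.1 ?_), fun y => ?_⟩
  · rw [evalMap_natural, evalMap_natural, hab]
  · obtain ⟨t2, ht2⟩ := e2.2 (appA T.f Z y)
    obtain ⟨t1, ht1⟩ := (hex t2).1 (e3.1 (by
      rw [evalMap_natural, ht2, (exact_appA hT Z).apply_apply_eq_zero]
      exact (map_zero _).symm))
    exact ⟨t1, injective_appA T.f Z (by rw [← evalMap_natural, ht1, ht2])⟩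

theorem isTilde_free (n : ℕ) : IsTilde (SheafOfModules.free (R := OEtOn E₀) (ULift.{u + 1} (Fin n))) := by
  obtain ⟨F, ⟨e⟩⟩ := exists_free_iso (E₀ := E₀) (ULift.{u + 1} (Fin n))
  exact isTilde_of_iso e (isTilde_tilde F)

theorem isTilde_summand {G : ModEtOn E₀} (h : DCoh.IsFinFreeSummandMod (OEtOn E₀) G) : IsTilde G := by
  obtain ⟨n, i, p, hip⟩ := h
  haveI : Mono i := (SplitMono.mk p hip).mono
  let T := ShortComplex.mk i (𝟙 _ - p ≫ i) (by
    rw [Preadditive.comp_sub, Category.comp_id, reassoc_of% hip, sub_self])
  refine isTilde_left (T := T) ?_ (isTilde_free n) (isTilde_free n)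
  refine ShortComplex.exact_of_f_is_kernel _ (KernelFork.IsLimit.ofι' i T.zero fun {A} k hk => ⟨k ≫ p, ?_⟩)
  rw [Preadditive.comp_sub, Category.comp_id, sub_eq_zero] at hk
  rw [Category.assoc]
  exact hk.symm

/-- A cokernel of a map of associated modules is associated. -/
theorem isTilde_cokernel {A B : ModEtOn E₀} (f : A ⟶ B) (hA : IsTilde A) (hB : IsTilde B) :
    IsTilde (cokernel f) := by
  haveI := isIso_counit_of_isTilde hA
  haveI := isIso_counit_of_isTilde hB
  haveI : PreservesColimit (parallelPair ((Γt E₀).map f) 0) (tildeF E₀) :=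
    ((tildeAdj E₀).leftAdjoint_preservesColimits).preservesColimitsOfShape.preservesColimit
  haveI : (tildeF E₀).PreservesZeroMorphisms := by
    haveI : (tildeF E₀).IsLeftAdjoint := (tildeAdj E₀).isLeftAdjoint
    infer_instance
  exact isTilde_of_iso (PreservesCokernel.iso (tildeF E₀) ((Γt E₀).map f) ≪≫
    cokernel.mapIso _ _ (asIso ((tildeAdj E₀).counit.app A)) (asIso ((tildeAdj E₀).counit.app B))
      ((tildeAdj E₀).counit.naturality f)) (isTilde_tilde _)

/-- The cohomology of a complex of associated modules is associated. -/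
theorem isTilde_homology (K : CochainComplex (ModEtOn E₀) ℤ) (h : ∀ j, IsTilde (K.X j)) (i : ℤ) :
    IsTilde (K.homology i) := by
  have hcyc : IsTilde (K.cycles i) :=
    isTilde_left (T := ShortComplex.mk (K.iCycles i) (K.d i (i + 1)) (K.iCycles_d i (i + 1)))
      (ShortComplex.exact_of_f_is_kernel _ (K.cyclesIsKernel i (i + 1) (by simp))) (h i) (h (i + 1))
  exact isTilde_of_iso (IsColimit.coconePointUniqueUpToIso (colimit.isColimit _)
    (K.homologyIsCokernel (i - 1) i (by simp))) (isTilde_cokernel _ (h (i - 1)) hcyc)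

omit [IsAffine E₀.obj.left.left] in
/-- Restriction along a morphism of the site preserves finite limits. -/
theorem preservesFiniteLimits_overMap {V W : EtOver X} (g : W ⟶ V) :
    PreservesFiniteLimits (SheafOfModules.overMap.{u + 1} (OEtRing X) g) := by
  have e : SheafOfModules.overMap.{u + 1} (OEtRing X) g ⋙ SheafOfModules.toSheaf _ =
    SheafOfModules.toSheaf _ ⋙ (Over.map g).sheafPushforwardContinuous AddCommGrpCat.{u + 1}
      ((etTop X).over W) ((etTop X).over V) := rfl
  haveI h1 : PreservesFiniteLimits (SheafOfModules.overMap.{u + 1} (OEtRing X) g ⋙ SheafOfModules.toSheaf _) := by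
    rw [e]
    infer_instance
  exact preservesFiniteLimits_of_reflects_of_preserves _ (SheafOfModules.toSheaf.{u + 1} _)

end Groth.Agent.AlgSpPerfLib
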