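import Groth.Agent.AlgSpPerfLib.SliceGamma
import Groth.Agent.AlgSpPerfLib.Alg
import Groth.Agent.S10771

/-!
# A perfect object over an affine object is a bounded complex of projective modules
-/

set_option autoImplicit false
set_option linter.unusedSectionVars false
set_option linter.style.haveILetI false
set_option backward.isDefEq.respectTransparency false
set_option backward.isDefEq.respectTransparency.types false
set_option maxHeartbeats 2000000
set_option synthInstance.maxHeartbeats 200000

universe u

open CategoryTheory CategoryTheory.Limits AlgebraicGeometry Opposite AlgSp HomologicalComplex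
open scoped TensorProduct

noncomputable section

attribute [local instance] HasDerivedCategory.standard

namespace Groth.Agent.AlgSpPerfLib

open ModEtQc

variable {S : Scheme.{u}} {X : Sp S} {E W : EtOver X} (g : W ⟶ E)

/-- Further restriction. -/
abbrev rm : ModEtOn E ⥤ ModEtOn W := SheafOfModules.overMap.{u + 1} (OEtRing X) g

instance additive_rm : (rm g).Additive where
  map_add := by intros; rfl

instance isLeftAdjoint_rm : (rm g).IsLeftAdjoint :=
  (SheafOfModules.overMapPushforwardAdj (OEtRing X) g).isLeftAdjoint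

instance preservesFiniteLimits_rm : PreservesFiniteLimits (rm g) := preservesFiniteLimits_overMap g

/-- Restriction in two steps, on complexes. -/
def rmIso (C : CochainComplex (ModEt X) ℤ) :
    (mapC (rm g)).obj ((mapC (resModEt E)).obj C) ≅ (mapC (resModEt W)).obj C :=
  HomologicalComplex.Hom.isoOfComponents (fun i => (SheafOfModules.overFunctorMap (OEtRing X) g).app (C.X i))
    fun i j _ => ((SheafOfModules.overFunctorMap (OEtRing X) g).hom.naturality (C.d i j)).symm

theorem isTilde_rm [IsAffine E.obj.left.left] [IsAffine W.obj.left.left] {G : ModEtOn E} (h : IsTilde G) :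
    IsTilde ((rm g).obj G) := by
  obtain ⟨P⟩ := exists_presentation_of_isTilde h
  exact isTilde_of_presentation (P.map (rm g) (SheafOfModules.overMapUnitIso g).symm)

/-- The free modules restrict to free modules. -/
def rmFree (I : Type (u + 1)) :
    (rm g).obj (SheafOfModules.free (R := OEtOn E) I) ≅ SheafOfModules.free (R := OEtOn W) I :=
  (SheafOfModules.mapFreeIso.{u + 1} (rm g) I (SheafOfModules.overMapUnitIso g).symm).symm

theorem isStrictlyPerfect_rm {P : CochainComplex (ModEtOn E) ℤ} (hP : DCoh.IsStrictlyPerfectMod (OEtOn E) P) :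
    DCoh.IsStrictlyPerfectMod (OEtOn W) ((mapC (rm g)).obj P) := by
  obtain ⟨⟨a, b, hab⟩, h⟩ := hP
  refine ⟨⟨a, b, fun i hi => (rm g).map_isZero (hab i hi)⟩, fun i => ?_⟩
  obtain ⟨n, x, y, hxy⟩ := h i
  refine ⟨n, (rm g).map x ≫ (rmFree g _).hom, (rmFree g _).inv ≫ (rm g).map y, ?_⟩
  rw [Category.assoc, Iso.hom_inv_id_assoc, ← (rm g).map_comp, hxy]
  exact (rm g).map_id _

theorem projective_gamma_rm_tilde [IsAffine E.obj.left.left] [IsAffine W.obj.left.left]
    (N : ModuleCat.{u + 1} (Ring E)) [Projective N] :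
    Projective ((Γt W).obj ((rm g).obj ((tildeF E).obj N))) := by
  obtain ⟨I, a, b, hab⟩ := exists_free_retract (E := E) N
  refine projective_summand I ((rm g).map a ≫ (rmFree g I).hom) ((rmFree g I).inv ≫ (rm g).map b) ?_
  rw [Category.assoc, Iso.hom_inv_id_assoc, ← (rm g).map_comp, hab]
  exact (rm g).map_id _

/-- A complex on a slice whose cohomology sections are computed termwise. -/
def GammaGood (K : CochainComplex (ModEtOn E) ℤ) : Prop := ∀ m, FExact (Γt E) K m ∧ IsTilde (K.homology m)

section Good

variable [IsAffine E.obj.left.left]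

theorem gammaGood_of_isTilde (K : CochainComplex (ModEtOn E) ℤ) (h : ∀ j, IsTilde (K.X j)) : GammaGood K :=
  fun m => ⟨fExact_gamma K h m, isTilde_homology K h m⟩

theorem fExact_of_exact {A B D : Type*} [Category A] [Category B] [Category D] [Abelian A] [Abelian B] [Abelian D]
    (G : A ⥤ B) (F : B ⥤ D) [G.Additive] [F.Additive] [PreservesFiniteLimits G] [PreservesFiniteColimits G]
    (K : CochainComplex A ℤ) (m : ℤ) (h : FExact (G ⋙ F) K m) : FExact F ((mapC G).obj K) m := by
  haveI : Epi (G.map (K.homologyπ m)) := inferInstance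
  have hG : FExact G K m := ⟨inferInstance,
    ((ShortComplex.exact_of_g_is_cokernel (ShortComplex.mk _ _ (K.toCycles_comp_homologyπ (m - 1) m))
      (K.homologyIsCokernel (m - 1) m (by simp))).map G)⟩
  obtain ⟨e, he⟩ := exists_homologyIso G K m hG
  haveI := isIso_cyc G K m
  have hw : G.map (K.toCycles (m - 1) m) ≫ cyc G K m = ((mapC G).obj K).toCycles (m - 1) m := by
    rw [← cancel_mono (((mapC G).obj K).iCycles m), Category.assoc, cyc_i, toCycles_i, ← G.map_comp, toCycles_i]
    rfl
  let T₁ := ShortComplex.mk ((G ⋙ F).map (K.toCycles (m - 1) m)) ((G ⋙ F).map (K.homologyπ m))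
    (by rw [← (G ⋙ F).map_comp, K.toCycles_comp_homologyπ, (G ⋙ F).map_zero])
  let T₂ := ShortComplex.mk (F.map (((mapC G).obj K).toCycles (m - 1) m)) (F.map (((mapC G).obj K).homologyπ m))
    (by rw [← F.map_comp, ((mapC G).obj K).toCycles_comp_homologyπ, F.map_zero])
  let φ : T₁ ≅ T₂ := ShortComplex.isoMk (Iso.refl _) (F.mapIso (asIso (cyc G K m))) (F.mapIso e)
    (by
      change 𝟙 _ ≫ F.map _ = F.map (G.map (K.toCycles (m - 1) m)) ≫ F.map (cyc G K m)
      rw [← F.map_comp, hw, Category.id_comp])
    (by
      change F.map (cyc G K m) ≫ F.map _ = F.map (G.map (K.homologyπ m)) ≫ F.map e.hom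
      rw [← F.map_comp, ← F.map_comp, he])
  refine ⟨?_, ShortComplex.exact_of_iso φ h.exact⟩
  haveI : Epi T₁.g := h.epi
  have h2 : T₂.g = φ.inv.τ₂ ≫ T₁.g ≫ φ.hom.τ₃ := by
    rw [← φ.hom.comm₂₃, ← Category.assoc, ← ShortComplex.comp_τ₂, φ.inv_hom_id, ShortComplex.id_τ₂, Category.id_comp]
  change Epi T₂.g
  rw [h2]
  infer_instance

theorem gammaGood_res [EnoughInjectives (ModEt X)] (C : CochainComplex (ModEt X) ℤ) [C.IsKInjective]
    (hq : ∀ q, (C.homology q).IsQuasicoherent) : GammaGood ((mapC (resModEt E)).obj C) := fun m =>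
  ⟨fExact_of_exact (resModEt E) (Γt E) C m
      (fExact_res C m (AlgSpRlimLib.affExact_of_kInjective C hq E ‹_› m)),
    isTilde_of_iso ((C.sc m).mapHomologyIso (resModEt E)).symm
      ((isQuasicoherent_iff_bc _).1 (hq m) E ‹_›)⟩

theorem quasiIso_gamma_iff {K L : CochainComplex (ModEtOn E) ℤ} (hK : GammaGood K) (hL : GammaGood L) (f : K ⟶ L) :
    QuasiIso ((mapC (Γt E)).map f) ↔ QuasiIso f := by
  simp only [quasiIso_iff, quasiIsoAt_iff_isIso_homologyMap]
  refine forall_congr' fun m => (isIso_homologyMap_iff (Γt E) K m f (hK m).1 (hL m).1).trans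
    ⟨fun h => isIso_of_isIso_gamma (hK m).2 (hL m).2 _ h, fun h => ?_⟩
  haveI := h
  infer_instance

/-- Sections commute with cokernels of maps of associated modules. -/
theorem nonempty_gamma_cokernel {A B : ModEtOn E} (f : A ⟶ B) (hA : IsTilde A) (hB : IsTilde B) :
    Nonempty ((Γt E).obj (cokernel f) ≅ cokernel ((Γt E).map f)) := by
  have hc := isTilde_cokernel f hA hB
  haveI := epi_gamma hB hc (cokernel.π f)
  let T := ShortComplex.mk f (cokernel.π f) (cokernel.condition f)
  have hT : (T.map (Γt E)).Exact := exact_gamma (ShortComplex.exact_cokernel f) hA hB hc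
  haveI : Epi (T.map (Γt E)).g := ‹Epi ((Γt E).map (cokernel.π f))›
  exact ⟨hT.gIsCokernel.coconePointUniqueUpToIso (colimit.isColimit _)⟩

end Good

theorem projective_tensor_of_iso [IsAffine E.obj.left.left] [IsAffine W.obj.left.left] (M : ModuleCat.{u + 1} (Ring E))
    (h : Projective ((Γt W).obj ((rm g).obj ((tildeF E).obj M)))) :
    letI := (rho g).toAlgebra
    Module.Projective (Ring W) (Ring W ⊗[Ring E] M) := by
  haveI := isIso_unit (E₀ := E)
  let G := (tildeF E).obj M
  let Z : Over E := Over.mk g
  let l : M ≃ₗ[Ring E] secP G.val (top E) := (asIso ((tildeAdj E).unit.app M)).toLinearEquiv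
  let N := (Γt W).obj ((rm g).obj G)
  haveI : Module.Projective (Ring W) N := (IsProjective.iff_projective (R := Ring W) N).mpr h
  letI := (rho g).toAlgebra
  let Z' : Over E := (Over.map g).obj (top W)
  have hbij : Function.Bijective (appP (evalMap G) Z) := isTilde_tilde M Z ‹_›
  let k : Z' ≅ Z := Over.isoMk (Iso.refl _) (by simp [Z, Z', Over.map, Over.mk])
  let f : Ring W ⊗[Ring E] M → N := fun t => resP G.val k.hom (appP (evalMap G) Z (LinearEquiv.lTensor (Ring W) l t))
  have hres : Function.Bijective (resP G.val k.hom) := by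
    refine ⟨Function.LeftInverse.injective (g := resP G.val k.inv) fun x => ?_,
      Function.RightInverse.surjective (g := resP G.val k.inv) fun x => ?_⟩
    · refine ((PresheafOfModules.map_comp_apply G.val k.hom.op k.inv.op x)).symm.trans ?_
      rw [← op_comp, k.inv_hom_id]
      exact (G.val.congr_map_apply op_id x).trans ((ConcreteCategory.congr_hom (G.val.map_id _) x).trans rfl)
    · refine ((PresheafOfModules.map_comp_apply G.val k.inv.op k.hom.op x)).symm.trans ?_
      rw [← op_comp, k.hom_inv_id]
      exact (G.val.congr_map_apply op_id x).trans ((ConcreteCategory.congr_hom (G.val.map_id _) x).trans rfl)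
  let F : Ring W ⊗[Ring E] M →ₗ[Ring W] N :=
    { toFun := f
      map_add' := fun x y => by
        change resP G.val k.hom (appP (evalMap G) Z (LinearEquiv.lTensor (Ring W) l (x + y))) = _
        rw [map_add]
        exact (congrArg (resP G.val k.hom) (map_add ((evalMap G).app (op Z)).hom _ _)).trans
          (map_add (G.val.map k.hom.op).hom _ _)
      map_smul' := fun r x => by
        have e1 : LinearEquiv.lTensor (Ring W) l (r • x) = r • LinearEquiv.lTensor (Ring W) l x := by
          induction x using TensorProduct.induction_on with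
          | zero => rw [smul_zero, map_zero, smul_zero]
          | tmul a b => rfl
          | add a b ha hb => rw [smul_add, map_add, ha, hb, map_add, smul_add]
        change resP G.val k.hom (appP (evalMap G) Z (LinearEquiv.lTensor (Ring W) l (r • x))) = _
        rw [e1]
        refine (congrArg (resP G.val k.hom) (appP_smul (evalMap G) (A := Z) r _)).trans ?_
        refine (PresheafOfModules.map_smul G.val k.hom.op _ _).trans ?_
        change rho (𝟙 W) r • _ = _
        rw [rho_id]
        rfl }
  have hF : Function.Bijective F := hres.comp (hbij.comp (LinearEquiv.bijective (LinearEquiv.lTensor (Ring W) l)))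
  exact Module.Projective.of_equiv (LinearEquiv.ofBijective F hF).symm

section Main

variable [IsAffine E.obj.left.left] (C : CochainComplex (ModEt X) ℤ) [C.IsKInjective]
  (hq : ∀ q, (C.homology q).IsQuasicoherent) (hK : IsPerfectEtDAt (DerivedCategory.Q.obj C) E)

include hK in
theorem exists_local_models :
    ∃ (n : ℕ) (Y : Fin n → EtOver X) (q : ∀ k, Y k ⟶ E), (∀ k, IsAffine (Y k).obj.left.left) ∧
      (∀ x, ∃ k, x ∈ Set.range (q k).hom.left.left) ∧
      ∀ k, ∃ (P : CochainComplex (ModEtOn (Y k)) ℤ) (β : P ⟶ (mapC (resModEt (Y k))).obj C),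
        DCoh.IsStrictlyPerfectMod (OEtOn (Y k)) P ∧ QuasiIso β := by
  obtain ⟨ι, V, v, hv, hV⟩ := hK
  obtain ⟨n, Y, q, hY, hR, hcov⟩ := exists_finite_affine_refinement
    (ofArrows_mem_etTop V v ((ofArrows_mem_etPre_iff V v).1 hv))
  refine ⟨n, Y, q, hY, hcov, fun k => ?_⟩
  obtain ⟨Z, h, r, hr, -⟩ := hR k
  obtain ⟨i⟩ := hr
  obtain ⟨P, hP, ⟨e⟩⟩ := hV i
  haveI := isKInjective_res C (V i)
  obtain ⟨α, hα⟩ := DerLib.KInjUse.Q_map_surjective P ((mapC (resModEt (V i))).obj C)
    (e.inv ≫ ((resModEt (V i)).mapDerivedCategoryFactors.app C).hom)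
  haveI : QuasiIso α := by
    rw [← DerivedCategory.isIso_Q_map_iff_quasiIso, hα]
    infer_instance
  exact ⟨(mapC (rm h)).obj P, (mapC (rm h)).map α ≫ (rmIso h C).hom, isStrictlyPerfect_rm h hP, inferInstance⟩

include hq hK in
/-- Over an affine object a perfect object is represented by a bounded complex of projective modules. -/
theorem exists_projective_model [EnoughInjectives (ModEt X)] :
    ∃ (F : CochainComplex (ModuleCat.{u + 1} (Ring E)) ℤ) (a b : ℤ), (∀ i, i < a → IsZero (F.X i)) ∧
      (∀ i, b < i → IsZero (F.X i)) ∧ (∀ i, Module.Projective (Ring E) (F.X i)) ∧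
      Nonempty (DerivedCategory.Q.obj ((mapC (resModEt E)).obj C) ≅
        DerivedCategory.Q.obj ((mapC (tildeF E)).obj F)) := by
  classical
  obtain ⟨n, Y, q, hY, hcov, hmod⟩ := exists_local_models C hK
  haveI := hY
  choose P β hP hβ using hmod
  choose a' b' hab using fun k => (hP k).1
  let b : ℤ := ∑ k, |b' k|
  let a : ℤ := -∑ k, |a' k|
  have hb' : ∀ k, b' k ≤ b := fun k =>
    (le_abs_self _).trans (Finset.single_le_sum (f := fun k => |b' k|) (fun i _ => abs_nonneg _) (Finset.mem_univ k))
  have ha' : ∀ k, a ≤ a' k := fun k => by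
    have := (neg_le_abs (a' k)).trans
      (Finset.single_le_sum (f := fun k => |a' k|) (fun i _ => abs_nonneg _) (Finset.mem_univ k))
    change -∑ k, |a' k| ≤ a' k
    omega
  have hvan : ∀ (k : Fin n) (j : ℤ), (j < a ∨ b < j) → IsZero ((P k).X j) := fun k j hj =>
    hab k j (by have := ha' k; have := hb' k; omega)
  -- the complex of sections
  let K := (mapC (resModEt E)).obj C
  let G := (mapC (Γt E)).obj K
  have hgK : GammaGood K := gammaGood_res C hq
  have hsec : ∀ j, (j < a ∨ b < j) → IsZero (G.homology j) := fun j hj => by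
    refine isZero_homology_map (Γt E) j (hgK j).1 (IsZero.of_iso ?_ ((Γt E).mapIso ((C.sc j).mapHomologyIso (resModEt E))))
    haveI : Subsingleton (sec (C.homology j) E) := ⟨fun x y => eq_of_cover (C.homology j) Y q hcov x y fun k => by
      haveI := hβ k
      have hz : IsZero (((mapC (resModEt (Y k))).obj C).homology j) :=
        haveI := (quasiIsoAt_iff_isIso_homologyMap (β k) j).1 ((hβ k).quasiIsoAt j)
        (((exactAt_iff_isZero_homology _ _).1 (HomologicalComplex.ExactAt.of_isZero (hvan k j hj)))).of_iso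
          (asIso (homologyMap (β k) j)).symm
      have hss := ModuleCat.subsingleton_of_isZero ((Γt (Y k)).map_isZero
        (hz.of_iso ((C.sc j).mapHomologyIso (resModEt (Y k))).symm))
      exact @Subsingleton.elim _ hss _ _⟩
    exact @ModuleCat.isZero_of_subsingleton _ _ ((Γt E).obj ((resModEt E).obj (C.homology j))) ‹Subsingleton (sec (C.homology j) E)›
  -- a free resolution
  obtain ⟨F, hFb, hFfree, ⟨eF⟩⟩ := DRingLib.exists_free_rep (DerivedCategory.Q.obj G) b fun j hj =>
    (hsec j (Or.inr hj)).of_iso ((DerivedCategory.homologyFunctorFactors _ j).app G)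
  haveI := DRingLib.isKProjective_of_free F b hFb hFfree
  obtain ⟨φ, hφ⟩ := DRingLib.Q_map_surjective F G eF.hom
  haveI hφq : QuasiIso φ := by
    rw [← DerivedCategory.isIso_Q_map_iff_quasiIso, hφ]
    infer_instance
  have hFproj : ∀ i, Projective (F.X i) := fun i => by
    haveI := hFfree i
    exact (IsProjective.iff_projective (R := Ring E) (F.X i)).mp inferInstance
  let T := (mapC (tildeF E)).obj F
  have hgT : GammaGood T := gammaGood_of_isTilde T fun j => isTilde_tilde _
  let ψ : T ⟶ K := trR (tildeAdj E) φ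
  haveI hψ : QuasiIso ψ := by
    rw [← quasiIso_gamma_iff hgT hgK]
    haveI := isIso_unit (E₀ := E)
    haveI : ∀ i, IsIso ((unitC (tildeAdj E) F).f i) := fun i => NatIso.isIso_app_of_isIso (tildeAdj E).unit (F.X i)
    haveI : IsIso (unitC (tildeAdj E) F) := HomologicalComplex.Hom.isIso_of_components _
    haveI : QuasiIso (unitC (tildeAdj E) F ≫ (mapC (Γt E)).map ψ) := by
      rw [show unitC (tildeAdj E) F ≫ (mapC (Γt E)).map ψ = φ from trL_trR (tildeAdj E) φ]
      exact hφq
    exact quasiIso_of_comp_left (unitC (tildeAdj E) F) _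
  -- projectivity of the cokernel
  let M := cokernel (F.d (a - 2) (a - 2 + 1))
  haveI hflat : ∀ k, letI := (rho (q k)).toAlgebra; Module.Flat (Ring E) (Ring (Y k)) := fun k => by
    letI := (rho (q k)).toAlgebra
    exact RingHom.flat_algebraMap_iff.1 (flat_rho (q k))
  have hMk : ∀ k, Projective ((Γt (Y k)).obj ((rm (q k)).obj ((tildeF E).obj M))) := fun k => by
    let R := rm (q k)
    let Tk := (mapC R).obj T
    let Kk := (mapC (resModEt (Y k))).obj C
    haveI := hβ k
    let ψk : Tk ⟶ Kk := (mapC R).map ψ ≫ (rmIso (q k) C).hom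
    have hTk : ∀ j, IsTilde (Tk.X j) := fun j => isTilde_rm (q k) (isTilde_tilde _)
    have hPk : ∀ j, IsTilde ((P k).X j) := fun j => isTilde_summand ((hP k).2 j)
    haveI : QuasiIso ((mapC (Γt (Y k))).map ψk) :=
      (quasiIso_gamma_iff (gammaGood_of_isTilde Tk hTk) (gammaGood_res C hq) ψk).2 inferInstance
    haveI : QuasiIso ((mapC (Γt (Y k))).map (β k)) :=
      (quasiIso_gamma_iff (gammaGood_of_isTilde (P k) hPk) (gammaGood_res C hq) (β k)).2 inferInstance
    let Tg := (mapC (Γt (Y k))).obj Tk
    let Pg := (mapC (Γt (Y k))).obj (P k)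
    have hTgP : ∀ j, Projective (Tg.X j) := fun j => by
      haveI := hFproj j
      exact projective_gamma_rm_tilde (q k) (F.X j)
    have hPgP : ∀ j, Projective (Pg.X j) := fun j => by
      obtain ⟨m, x, y, hxy⟩ := (hP k).2 j
      exact projective_summand _ x y hxy
    have hTgb : ∀ j, b < j → IsZero (Tg.X j) := fun j hj =>
      (Γt (Y k)).map_isZero (R.map_isZero ((tildeF E).map_isZero (hFb j hj)))
    haveI : Tg.IsKProjective := DRingLib.isKProjective_of_projective Tg b hTgb fun j =>
      (IsProjective.iff_projective (R := Ring (Y k)) (Tg.X j)).mpr (hTgP j)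
    obtain ⟨χ, hχ⟩ := DRingLib.Q_map_surjective Tg Pg
      (DerivedCategory.Q.map ((mapC (Γt (Y k))).map ψk) ≫ inv (DerivedCategory.Q.map ((mapC (Γt (Y k))).map (β k))))
    haveI : QuasiIso χ := by
      rw [← DerivedCategory.isIso_Q_map_iff_quasiIso, hχ]
      infer_instance
    have hcok : Projective (cokernel (Tg.d (a - 2) (a - 2 + 1))) :=
      projective_cokernel_of_quasiIso χ b a hTgb
      (fun j hj => (Γt (Y k)).map_isZero (hvan k j (Or.inr hj)))
      (fun j hj => (Γt (Y k)).map_isZero (hvan k j (Or.inl hj))) hTgP hPgP (a - 2) (by omega)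
    obtain ⟨e⟩ := nonempty_gamma_cokernel (R.map ((tildeF E).map (F.d (a - 2) (a - 2 + 1)))) (hTk _) (hTk _)
    haveI : PreservesColimit (parallelPair (F.d (a - 2) (a - 2 + 1)) 0) (tildeF E) :=
      ((tildeAdj E).leftAdjoint_preservesColimits).preservesColimitsOfShape.preservesColimit
    exact Projective.of_iso (e.symm ≪≫ (Γt (Y k)).mapIso ((PreservesCokernel.iso R _).symm ≪≫
      R.mapIso (PreservesCokernel.iso (tildeF E) _).symm)) hcok
  haveI hM : Module.Projective (Ring E) M := by
    letI := fun k => (rho (q k)).toAlgebra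
    exact projective_of_family (fun k => Ring (Y k))
      (faithfulFamily_of_flat (fun k => Ring (Y k)) hflat (surjective_comap Y q hcov)) M
      fun k => projective_tensor_of_iso (q k) M (hMk k)
  -- truncation
  let c := a - 1
  haveI : F.IsGE c := by
    rw [CochainComplex.isGE_iff]
    intro j hj
    rw [exactAt_iff_isZero_homology]
    exact (hsec j (Or.inl (by omega))).of_iso (asIso (homologyMap φ j))
  let F' := F.truncGE c
  haveI : QuasiIso (F.πTruncGE c) := (F.quasiIso_πTruncGE_iff c).2 inferInstance
  haveI := preservesFiniteLimits_tildeF (E := E)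
  haveI : PreservesFiniteColimits (tildeF E) :=
    haveI : PreservesColimitsOfSize.{0, 0} (tildeF E) := (tildeAdj E).leftAdjoint_preservesColimits
    PreservesColimitsOfSize.preservesFiniteColimits _
  haveI : QuasiIso ((mapC (tildeF E)).map (F.πTruncGE c)) := inferInstance
  refine ⟨F', c, max b c, fun i hi => F'.isZero_of_isStrictlyGE c i hi, fun i hi => ?_, fun i => ?_,
    ⟨(asIso (DerivedCategory.Q.map ψ)).symm ≪≫ asIso (DerivedCategory.Q.map ((mapC (tildeF E)).map (F.πTruncGE c)))⟩⟩
  · exact (hFb i (lt_of_le_of_lt (le_max_left _ _) hi)).of_iso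
      (F.truncGEXIso c i (lt_of_le_of_lt (le_max_right _ _) hi))
  · rcases lt_trichotomy i c with hi | hi | hi
    · haveI := DRingLib.free_of_isZero (F'.isZero_of_isStrictlyGE c i hi)
      infer_instance
    · subst hi
      have hM' : ∀ j, a - 2 + 1 = j → Nonempty (M ≅ F.opcycles j) := fun j hj => by
        subst hj
        exact ⟨IsColimit.coconePointUniqueUpToIso (colimit.isColimit _)
          (F.opcyclesIsCokernel (a - 2) (a - 2 + 1) (by simp))⟩
      obtain ⟨e⟩ := hM' c (by omega)
      exact Module.Projective.of_equiv (e ≪≫ (F.truncGEXIsoOpcycles c).symm).toLinearEquiv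
    · haveI := hFfree i
      exact Module.Projective.of_equiv (F.truncGEXIso c i hi).symm.toLinearEquiv

end Main

end Groth.Agent.AlgSpPerfLib
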