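import Groth.Agent.AlgSpPerfLib.Core
import Groth.Agent.DerLib.Ghost

/-!
# Shifts and truncations in the vanishing range
-/

set_option autoImplicit false
set_option linter.unusedSectionVars false
set_option linter.style.haveILetI false
set_option backward.isDefEq.respectTransparency false
set_option backward.isDefEq.respectTransparency.types false
set_option maxHeartbeats 2000000
set_option synthInstance.maxHeartbeats 400000

universe u

open CategoryTheory CategoryTheory.Limits AlgebraicGeometry Opposite AlgSp HomologicalComplex Pretriangulated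
open DerivedCategory.TStructure (t)

noncomputable section

attribute [local instance] HasDerivedCategory.standard

namespace Groth.Agent.AlgSpPerfLib

variable {S : Scheme.{u}} {X : Space S}

/-- The vanishing property on a given range. -/
def VanishesOn (P : DModEt X.obj) (a b : ℤ) : Prop :=
  ∀ L : DModEt X.obj, DCoh.IsQCohDMod (OEtRing X.obj) L →
    (∀ i : ℤ, a ≤ i → i ≤ b → IsZero (DCoh.HDMod (OEtRing X.obj) L i)) → ∀ φ : P ⟶ L, φ = 0

theorem eq_zero_of_shifted {P : DModEt X.obj} {a b : ℤ} (h : VanishesOn P a b) {Y : DModEt X.obj}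
    (hY : DCoh.IsQCohDMod (OEtRing X.obj) Y) (i : ℤ)
    (hz : ∀ j, a + i ≤ j → j ≤ b + i → IsZero (DCoh.HDMod (OEtRing X.obj) Y j)) (φ : P⟦-i⟧ ⟶ Y) : φ = 0 := by
  refine (shiftFunctor (DModEt X.obj) i).map_injective ?_
  rw [Functor.map_zero, ← cancel_epi ((shiftFunctorCompIsoId (DModEt X.obj) (-i) i (neg_add_cancel i)).inv.app P),
    comp_zero]
  exact h _ (isQCoh_shift hY i)
    (fun j h1 h2 => (hz (i + j) (by omega) (by omega)).of_iso (hShift Y i j (i + j) rfl)) _

theorem isQCoh_truncGE {E : DModEt X.obj} (hE : DCoh.IsQCohDMod (OEtRing X.obj) E) (a : ℤ) :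
    DCoh.IsQCohDMod (OEtRing X.obj) ((t.truncGE a).obj E) := fun m => by
  by_cases hm : a ≤ m
  · haveI := DerLib.Ghost.isIso_homologyMap_truncGEπ E a m hm
    exact ObjectProperty.prop_of_iso (SheafOfModules.isQuasicoherent (OEtRing X.obj))
      (asIso ((DerivedCategory.homologyFunctor (ModEt X.obj) m).map ((t.truncGEπ a).app E))) (hE m)
  · exact AlgSpRlimLib.isQuasicoherent_of_isZero
      (DerivedCategory.isZero_of_isGE ((t.truncGE a).obj E) a m (by omega)) (hE m)

theorem isQCoh_truncLT {E : DModEt X.obj} (hE : DCoh.IsQCohDMod (OEtRing X.obj) E) (a : ℤ) :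
    DCoh.IsQCohDMod (OEtRing X.obj) ((t.truncLT a).obj E) := fun m => by
  by_cases hm : m < a
  · haveI := DerLib.Ghost.isIso_homologyMap_truncLTι E a m hm
    exact ObjectProperty.prop_of_iso (SheafOfModules.isQuasicoherent (OEtRing X.obj))
      (asIso ((DerivedCategory.homologyFunctor (ModEt X.obj) m).map ((t.truncLTι a).app E))).symm (hE m)
  · haveI : t.IsLE ((t.truncLT a).obj E) (a - 1) := inferInstance
    exact AlgSpRlimLib.isQuasicoherent_of_isZero
      (DerivedCategory.isZero_of_isLE ((t.truncLT a).obj E) (a - 1) m (by omega)) (hE m)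

theorem isZero_truncGE (E : DModEt X.obj) (a m : ℤ) (h : m < a) :
    IsZero (DCoh.HDMod (OEtRing X.obj) ((t.truncGE a).obj E) m) :=
  DerivedCategory.isZero_of_isGE ((t.truncGE a).obj E) a m h

theorem isZero_truncLT (E : DModEt X.obj) (a m : ℤ) (h : a ≤ m) :
    IsZero (DCoh.HDMod (OEtRing X.obj) ((t.truncLT a).obj E) m) :=
  haveI : t.IsLE ((t.truncLT a).obj E) (a - 1) := inferInstance
  DerivedCategory.isZero_of_isLE ((t.truncLT a).obj E) (a - 1) m (by omega)

variable {P E : DModEt X.obj} {a₀ b₀ : ℤ} (h : VanishesOn P a₀ b₀) (hE : DCoh.IsQCohDMod (OEtRing X.obj) E) (a : ℤ)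

include h hE

theorem vanish_iff_truncGE (i : ℤ) (hi : a ≤ a₀ + i) :
    (∀ φ : P⟦-i⟧ ⟶ E, φ = 0) ↔ ∀ φ : P⟦-i⟧ ⟶ (t.truncGE a).obj E, φ = 0 := by
  have hT := t.triangleLTGE_distinguished a E
  have h1 : ∀ g : P⟦-i⟧ ⟶ (t.truncLT a).obj E, g = 0 := fun g =>
    eq_zero_of_shifted h (isQCoh_truncLT hE a) i (fun j hj _ => isZero_truncLT E a j (by omega)) g
  have h2 : ∀ g : P⟦-i⟧ ⟶ ((t.truncLT a).obj E)⟦(1 : ℤ)⟧, g = 0 := fun g =>
    eq_zero_of_shifted h (isQCoh_shift (isQCoh_truncLT hE a) 1) i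
      (fun j hj _ => (isZero_truncLT E a (1 + j) (by omega)).of_iso (hShift _ 1 j (1 + j) rfl)) g
  constructor
  · intro hv φ
    obtain ⟨g, hg⟩ := Triangle.coyoneda_exact₃ _ hT φ (h2 _)
    exact hg.trans (by rw [hv g]; exact zero_comp)
  · intro hv φ
    obtain ⟨g, hg⟩ := Triangle.coyoneda_exact₂ _ hT φ (hv _)
    exact hg.trans (by rw [h1 g]; exact zero_comp)

theorem vanish_iff_truncLE (i : ℤ) (hi : b₀ + i ≤ a) :
    (∀ φ : P⟦-i⟧ ⟶ E, φ = 0) ↔ ∀ φ : P⟦-i⟧ ⟶ (t.truncLT (a + 1)).obj E, φ = 0 := by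
  have hT := t.triangleLTGE_distinguished (a + 1) E
  have h1 : ∀ g : P⟦-i⟧ ⟶ (t.truncGE (a + 1)).obj E, g = 0 := fun g =>
    eq_zero_of_shifted h (isQCoh_truncGE hE _) i (fun j _ hj => isZero_truncGE E _ j (by omega)) g
  have h2 : ∀ g : P⟦-i⟧ ⟶ ((t.truncGE (a + 1)).obj E)⟦(-1 : ℤ)⟧, g = 0 := fun g =>
    eq_zero_of_shifted h (isQCoh_shift (isQCoh_truncGE hE _) (-1)) i
      (fun j _ hj => (isZero_truncGE E _ (-1 + j) (by omega)).of_iso (hShift _ (-1) j (-1 + j) rfl)) g
  constructor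
  · intro hv φ
    obtain ⟨g, hg⟩ := Triangle.coyoneda_exact₂ _ (inv_rot_of_distTriang _ hT) φ (hv _)
    exact hg.trans (by rw [h2 g]; exact zero_comp)
  · intro hv φ
    obtain ⟨g, hg⟩ := Triangle.coyoneda_exact₂ _ hT φ (h1 _)
    exact hg.trans (by rw [hv g]; exact zero_comp)

end Groth.Agent.AlgSpPerfLib
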