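import Groth.Agent.AlgSpPerfLib.Gen
import Groth.Agent.AlgSpPerfLib.SliceQc
import Groth.Agent.AlgSpRlimLib.UnboundedExact
import Groth.Agent.AlgSpRlimLib.ExtZero

/-!
# Global sections of associated modules on a slice over an affine object, and of complexes of them
-/

set_option autoImplicit false
set_option linter.unusedSectionVars false
set_option linter.style.haveILetI false
set_option backward.isDefEq.respectTransparency false
set_option backward.isDefEq.respectTransparency.types false
set_option maxHeartbeats 1000000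
set_option synthInstance.maxHeartbeats 200000

universe u

open CategoryTheory CategoryTheory.Limits AlgebraicGeometry Opposite AlgSp HomologicalComplex
open scoped TensorProduct

noncomputable section

attribute [local instance] HasDerivedCategory.standard

namespace Groth.Agent.AlgSpPerfLib

open ModEtQc

variable {S : Scheme.{u}} {X : Sp S} {E : EtOver X}

instance additive_Γt : (Γt E).Additive where
  map_add := by intros; rfl

instance preservesFiniteLimits_Γt : PreservesFiniteLimits (Γt E) :=
  haveI : (Γt E).IsRightAdjoint := (tildeAdj E).isRightAdjoint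
  inferInstance

instance additive_tildeF : (tildeF E).Additive :=
  haveI : PreservesColimitsOfSize.{0, 0} (tildeF E) := ((tildeAdj E).leftAdjoint_preservesColimits)
  haveI : PreservesBinaryBiproducts (tildeF E) := preservesBinaryBiproducts_of_preservesBinaryCoproducts _
  Functor.additive_of_preservesBinaryBiproducts _

theorem exact_injective {G G' : ModEtOn E} (f : G ⟶ G') [Mono f] : Function.Injective ((Γt E).map f) :=
  injective_appA f (top E)

section Aff

variable [IsAffine E.obj.left.left]

theorem isZero_of_isTilde {G : ModEtOn E} (h : IsTilde G) (hz : IsZero ((Γt E).obj G)) : IsZero G := by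
  haveI := isIso_counit_of_isTilde h
  exact ((tildeF E).map_isZero hz).of_iso (asIso ((tildeAdj E).counit.app G)).symm

theorem isIso_of_isIso_gamma {G G' : ModEtOn E} (h : IsTilde G) (h' : IsTilde G') (f : G ⟶ G')
    (hf : IsIso ((Γt E).map f)) : IsIso f := by
  haveI := isIso_counit_of_isTilde h
  haveI := isIso_counit_of_isTilde h'
  haveI := hf
  haveI : IsIso ((tildeF E).map ((Γt E).map f) ≫ (tildeAdj E).counit.app G') := inferInstance
  haveI : IsIso ((tildeAdj E).counit.app G ≫ f) := by
    rw [show (tildeAdj E).counit.app G ≫ f = (tildeF E).map ((Γt E).map f) ≫ (tildeAdj E).counit.app G' from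
      ((tildeAdj E).counit.naturality f).symm]
    infer_instance
  exact IsIso.of_isIso_comp_left ((tildeAdj E).counit.app G) f

theorem epi_gamma {G G' : ModEtOn E} (h : IsTilde G) (h' : IsTilde G') (f : G ⟶ G') [Epi f] :
    Epi ((Γt E).map f) := by
  haveI := isIso_counit_of_isTilde h
  haveI := isIso_counit_of_isTilde h'
  haveI := isIso_unit (E₀ := E)
  haveI : Epi ((tildeF E).map ((Γt E).map f)) := by
    haveI : Epi ((tildeF E).map ((Γt E).map f) ≫ (tildeAdj E).counit.app G') := by
      rw [show (tildeF E).map ((Γt E).map f) ≫ (tildeAdj E).counit.app G' = (tildeAdj E).counit.app G ≫ f from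
        (tildeAdj E).counit.naturality f]
      infer_instance
    have h2 := epi_comp ((tildeF E).map ((Γt E).map f) ≫ (tildeAdj E).counit.app G') (inv ((tildeAdj E).counit.app G'))
    rwa [Category.assoc, IsIso.hom_inv_id, Category.comp_id] at h2
  haveI : (tildeF E).Faithful := (tildeAdj E).fullyFaithfulLOfIsIsoUnit.faithful
  exact (tildeF E).epi_of_epi_map ‹_›

theorem exact_gamma {T : ShortComplex (ModEtOn E)} (hT : T.Exact) (h1 : IsTilde T.X₁) (h2 : IsTilde T.X₂)
    (h3 : IsTilde T.X₃) : (T.map (Γt E)).Exact := by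
  let K := ShortComplex.mk (kernel.ι T.g) T.g (kernel.condition _)
  have hk : IsTilde (kernel T.g) := isTilde_left (T := K) (ShortComplex.exact_kernel _) h2 h3
  haveI : Epi (kernel.lift T.g T.f T.zero) := hT.epi_kernelLift
  haveI := epi_gamma h1 hk (kernel.lift T.g T.f T.zero)
  have hK : (K.map (Γt E)).Exact :=
    (ShortComplex.exact_kernel T.g).map_of_mono_of_preservesKernel _ inferInstance inferInstance
  let φ : T.map (Γt E) ⟶ K.map (Γt E) :=
    { τ₁ := (Γt E).map (kernel.lift T.g T.f T.zero)
      τ₂ := 𝟙 _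
      τ₃ := 𝟙 _
      comm₁₂ := by
        change (Γt E).map _ ≫ (Γt E).map (kernel.ι T.g) = (Γt E).map T.f ≫ 𝟙 _
        rw [← Functor.map_comp, kernel.lift_ι, Category.comp_id]
      comm₂₃ := by
        change 𝟙 _ ≫ (Γt E).map T.g = (Γt E).map T.g ≫ 𝟙 _
        rw [Category.id_comp, Category.comp_id] }
  haveI : Epi φ.τ₁ := ‹Epi ((Γt E).map (kernel.lift T.g T.f T.zero))›
  haveI : IsIso φ.τ₂ := inferInstanceAs (IsIso (𝟙 _))
  haveI : Mono φ.τ₃ := inferInstanceAs (Mono (𝟙 _))
  exact (ShortComplex.exact_iff_of_epi_of_isIso_of_mono φ).2 hK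

theorem fExact_gamma (K : CochainComplex (ModEtOn E) ℤ) (h : ∀ j, IsTilde (K.X j)) (m : ℤ) :
    FExact (Γt E) K m := by
  have hc : IsTilde (K.cycles m) :=
    isTilde_left (T := ShortComplex.mk (K.iCycles m) (K.d m (m + 1)) (K.iCycles_d m (m + 1)))
      (ShortComplex.exact_of_f_is_kernel _ (K.cyclesIsKernel m (m + 1) (by simp))) (h m) (h (m + 1))
  have hH : IsTilde (K.homology m) := isTilde_homology K h m
  exact ⟨epi_gamma hc hH _, exact_gamma (T := ShortComplex.mk _ _ (K.toCycles_comp_homologyπ (m - 1) m))
    (ShortComplex.exact_of_g_is_cokernel _ (K.homologyIsCokernel (m - 1) m (by simp))) (h (m - 1)) hc hH⟩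

theorem preservesFiniteLimits_tildeF : PreservesFiniteLimits (tildeF E) := by
  have hmono : ∀ (N N' : ModuleCat.{u + 1} (Ring E)) (f : N ⟶ N') (_ : Mono f), Mono ((tildeF E).map f) := fun N N' f _ => by
    haveI := isIso_unit (E₀ := E)
    let g := (tildeF E).map f
    have hk : IsTilde (kernel g) := isTilde_left (T := ShortComplex.mk (kernel.ι g) g (kernel.condition g))
      (ShortComplex.exact_kernel g) (isTilde_tilde N) (isTilde_tilde N')
    refine Preadditive.mono_of_kernel_zero ((isZero_of_isTilde hk ?_).eq_of_src _ _)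
    haveI : Mono ((Γt E).map g) := by
      haveI : Mono ((tildeAdj E).unit.app N ≫ (Γt E).map g) := by
        rw [show (tildeAdj E).unit.app N ≫ (Γt E).map g = f ≫ (tildeAdj E).unit.app N' from
          ((tildeAdj E).unit.naturality f).symm]
        exact @mono_comp _ _ _ _ _ f ‹_› _ (@IsIso.mono_of_iso _ _ _ _ _ (NatIso.isIso_app_of_isIso _ N'))
      have h2 := mono_comp (inv ((tildeAdj E).unit.app N)) ((tildeAdj E).unit.app N ≫ (Γt E).map g)
      simpa using h2
    exact IsZero.of_iso (isZero_kernel_of_mono ((Γt E).map g)) (PreservesKernel.iso (Γt E) g)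
  haveI : (tildeF E).PreservesMonomorphisms := ⟨fun {N N'} f hf => hmono N N' f hf⟩
  haveI : PreservesFiniteColimits (tildeF E) :=
    haveI : PreservesColimitsOfSize.{0, 0} (tildeF E) := (tildeAdj E).leftAdjoint_preservesColimits
    PreservesColimitsOfSize.preservesFiniteColimits _
  haveI : (tildeF E).PreservesHomology :=
    Functor.preservesHomology_of_preservesMonos_and_cokernels (tildeF E)
  exact Functor.preservesFiniteLimits_of_preservesHomology _

/-- A module summand of a free one on global sections: projectivity. -/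
theorem projective_free (I : Type (u + 1)) : Projective ((Γt E).obj (SheafOfModules.free (R := OEtOn E) I)) := by
  obtain ⟨e⟩ := isIso_tilde_ring (E₀ := E)
  haveI := isIso_unit (E₀ := E)
  let F : ModuleCat.{u + 1} (Ring E) := ∐ fun _ : I => ModuleCat.of (Ring E) (Ring E)
  haveI : Projective (ModuleCat.of (Ring E) (Ring E)) :=
    (IsProjective.iff_projective (R := Ring E) (Ring E)).mp inferInstance
  let i : (tildeF E).obj F ≅ SheafOfModules.free (R := OEtOn E) I :=
    PreservesCoproduct.iso (tildeF E) (fun _ : I => ModuleCat.of (Ring E) (Ring E)) ≪≫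
      Sigma.mapIso (fun _ : I => e)
  exact Projective.of_iso (asIso ((tildeAdj E).unit.app F) ≪≫ (Γt E).mapIso i) inferInstance

theorem projective_summand {G : ModEtOn E} (I : Type (u + 1)) (a : G ⟶ SheafOfModules.free (R := OEtOn E) I)
    (b : SheafOfModules.free (R := OEtOn E) I ⟶ G) (h : a ≫ b = 𝟙 G) : Projective ((Γt E).obj G) := by
  haveI := projective_free (E := E) I
  exact ({ i := (Γt E).map a, r := (Γt E).map b, retract := by rw [← Functor.map_comp, h, CategoryTheory.Functor.map_id] } :
    Retract ((Γt E).obj G) ((Γt E).obj (SheafOfModules.free (R := OEtOn E) I))).projective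

theorem exists_free_retract (N : ModuleCat.{u + 1} (Ring E)) [Projective N] :
    ∃ (I : Type (u + 1)) (a : (tildeF E).obj N ⟶ SheafOfModules.free (R := OEtOn E) I)
      (b : SheafOfModules.free (R := OEtOn E) I ⟶ (tildeF E).obj N), a ≫ b = 𝟙 _ := by
  obtain ⟨e⟩ := isIso_tilde_ring (E₀ := E)
  let A₁ := ModuleCat.of (Ring E) (Ring E)
  let p : (∐ fun _ : (N : Type (u + 1)) => A₁) ⟶ N :=
    Sigma.desc fun x => ModuleCat.ofHom (LinearMap.toSpanSingleton (Ring E) N x)
  haveI : Epi p := (ModuleCat.epi_iff_surjective p).2 fun x =>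
    ⟨Sigma.ι (fun _ : (N : Type (u + 1)) => A₁) x (1 : Ring E), by
      rw [← ConcreteCategory.comp_apply, Sigma.ι_desc]
      exact one_smul _ x⟩
  let i := PreservesCoproduct.iso (tildeF E) (fun _ : (N : Type (u + 1)) => A₁) ≪≫
      Sigma.mapIso (fun _ : (N : Type (u + 1)) => e)
  let s := Projective.factorThru (𝟙 N) p
  refine ⟨(N : Type (u + 1)), (tildeF E).map s ≫ i.hom, i.inv ≫ (tildeF E).map p, ?_⟩
  rw [Category.assoc, Iso.hom_inv_id_assoc, ← Functor.map_comp, Projective.factorThru_comp, CategoryTheory.Functor.map_id]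

end Aff

section Global

variable (C : CochainComplex (ModEt X) ℤ)

theorem fExact_res (m : ℤ) (h : AlgSpRlimLib.AffExact C E m) : FExact (resModEt E ⋙ Γt E) C m := by
  refine ⟨(ModuleCat.epi_iff_surjective _).2 fun x => h.surj x, ?_⟩
  rw [ShortComplex.moduleCat_exact_iff]
  exact fun z hz => h.exact z hz

/-- Restriction to an object preserves K-injective complexes. -/
theorem isKInjective_res [C.IsKInjective] (E : EtOver X) : ((mapC (resModEt E)).obj C).IsKInjective := by
  obtain ⟨h1, h2⟩ := AlgSpRlimLib.ExtZero.exact_ext (OEtRing X) E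
  haveI := h1
  haveI := h2
  haveI : (AlgSpRlimLib.ExtZero.ext (OEtRing X) E).IsLeftAdjoint :=
    (AlgSpRlimLib.ExtZero.adj (OEtRing X) E).isLeftAdjoint
  haveI : PreservesBinaryBiproducts (AlgSpRlimLib.ExtZero.ext (OEtRing X) E) :=
    preservesBinaryBiproducts_of_preservesBinaryCoproducts _
  haveI : (AlgSpRlimLib.ExtZero.ext (OEtRing X) E).Additive :=
    Functor.additive_of_preservesBinaryBiproducts _
  exact isKInjective_map (AlgSpRlimLib.ExtZero.adj (OEtRing X) E) C

end Global

end Groth.Agent.AlgSpPerfLib
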