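import Groth.Agent.AlgSpPerfLib.Copower
import Groth.Agent.ModEtQcLib.Site
import Groth.Agent.ElemGlueLib.Main
import Groth.Prelude.Def_AlgSpSub
import Groth.Prelude.Def_AlgSpD

/-!
# Local geometry of an elementary distinguished square, seen from the small etale site
-/

set_option autoImplicit false
set_option linter.unusedSectionVars false
set_option linter.style.haveILetI false
set_option backward.isDefEq.respectTransparency false
set_option backward.isDefEq.respectTransparency.types false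
set_option maxHeartbeats 2000000
set_option synthInstance.maxHeartbeats 400000

universe u

open CategoryTheory CategoryTheory.Limits AlgebraicGeometry Opposite AlgSp AlgSpLib

noncomputable section

namespace Groth.Agent.AlgSpPerfLib

variable {S : Scheme.{u}}

theorem open_le_etale : (@IsOpenImmersion : MorphismProperty Scheme.{u}) ≤ @Etale := fun _ _ g hg => by
  haveI : IsOpenImmersion g := hg
  infer_instance

theorem mem_range_of_point {Y T : Over S} (c : Y ⟶ T) (p : Points ((yon S).obj Y)) (t : T.left)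
    (h : Points.map ((yon S).map c) p = Points.ofPt (𝟙 _) t) : t ∈ Set.range c.left := by
  obtain ⟨W₀, d, w, rfl⟩ := exists_ofPt_eq p
  obtain ⟨d', rfl⟩ := (yon S).map_surjective d
  refine ⟨d'.left w, (Points.schemeHomeo T).injective ?_⟩
  have h4 : ∀ (T : Over S) (x : T.left), Points.schemeHomeo T x = Points.ofPt (𝟙 ((yon S).obj T)) x := fun _ _ => rfl
  rw [h4, h4, ← h, Points.map_ofPt, ← Functor.map_comp]
  conv_rhs => rw [← Category.comp_id ((yon S).map (d' ≫ c)), ofPt_yon_comp]
  rfl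

/-- A map from a scheme lifts, etale locally at a point over the image of a representable etale map. -/
theorem exists_lift_point {G W : Sp S} (g : G ⟶ W) (hg : RepWith @Etale g) {T : Over S} (w : (yon S).obj T ⟶ W)
    (t : T.left) (ht : Points.ofPt w t ∈ Set.range (Points.map g)) :
    ∃ (T' : Over S) (c : T' ⟶ T) (l : (yon S).obj T' ⟶ G), Etale c.left ∧ t ∈ Set.range c.left ∧
      l ≫ g = (yon S).map c ≫ w := by
  obtain ⟨T', c, l, sq⟩ := hg.1 w
  obtain ⟨x, hx⟩ := ht
  obtain ⟨p, -, hp⟩ := exists_point_isPullback sq x (Points.ofPt (𝟙 _) t) (by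
    rw [hx, Points.map_ofPt, Category.id_comp])
  exact ⟨T', c, l, hg.2 w l c sq, mem_range_of_point c p t hp, sq.w⟩

section Sq

variable {U V W : Sp S} {j : U ⟶ W} {f : V ⟶ W} (hsq : IsElemDistSq j f)

include hsq

theorem mem_or_mem_range (x : Points W) :
    x ∈ Set.range (Points.map j) ∨ x ∈ Set.range (Points.map f) := by
  obtain ⟨-, -, T, P, i, p₁, p₂, hi, sq, hp⟩ := hsq
  by_cases h : x ∈ Set.range (Points.map j)
  · exact Or.inl h
  · obtain ⟨t, rfl⟩ := hi.2.1.ge h
    refine Or.inr ⟨Points.map p₂ (Points.map (inv p₁) t), ?_⟩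
    rw [← Points.map_comp, ← Points.map_comp]
    exact congrArg (Points.map · t) (by rw [← sq.w, IsIso.inv_hom_id_assoc])

/-- Two lifts to the etale part of a field point outside the open part agree. -/
theorem field_lift_eq {K : Over S} [IsReduced K.left] [Subsingleton ↥K.left] (a b : (yon S).obj K ⟶ V)
    (hab : a ≫ f = b ≫ f) (k : K.left) (hk : Points.ofPt (a ≫ f) k ∉ Set.range (Points.map j)) : a = b := by
  obtain ⟨-, -, T, P, i, p₁, p₂, hi, sq, hp⟩ := hsq
  let ξ := a ≫ f
  obtain ⟨W', c, fst, sqW⟩ := hi.1.1 ξ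
  obtain ⟨t, ht⟩ := hi.2.1.ge hk
  obtain ⟨w, -, hw⟩ := exists_point_isPullback sqW t (Points.ofPt (𝟙 _) k) (by
    rw [ht, Points.map_ofPt, Category.id_comp])
  haveI : IsClosedImmersion c.left := hi.1.2 ξ fst c sqW
  haveI : Surjective c.left := ⟨fun y => by
    obtain ⟨x, -⟩ := mem_range_of_point c w k hw
    exact ⟨x, Subsingleton.elim _ _⟩⟩
  haveI : IsIso c.left := isIso_of_isClosedImmersion_of_surjective c.left
  haveI : IsIso c := by
    haveI : IsIso ((Over.forget S).map c) := ‹IsIso c.left›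
    exact isIso_of_reflects_iso c (Over.forget S)
  let l := (yon S).map (inv c) ≫ fst
  have hl : l ≫ i = ξ := by
    rw [Category.assoc, sqW.w, ← Functor.map_comp_assoc, IsIso.inv_hom_id, CategoryTheory.Functor.map_id,
      Category.id_comp]
  have h1 := sq.lift_fst l a hl
  have h2 := sq.lift_fst l b (hl.trans hab)
  have e : sq.lift l a hl = sq.lift l b (hl.trans hab) := (cancel_mono p₁).1 (h1.trans h2.symm)
  rw [← sq.lift_snd l a hl, e, sq.lift_snd]

/-- Near a point two lifts to an affine etale part either agree or lift to the open part. -/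
theorem exists_agree_point {T₀ : Over S} (e : (yon S).obj T₀ ≅ V) {T : Over S} (v v' : (yon S).obj T ⟶ V)
    (hvv : v ≫ f = v' ≫ f) (t : T.left) :
    ∃ (T' : Over S) (c : T' ⟶ T), Etale c.left ∧ t ∈ Set.range c.left ∧
      ((yon S).map c ≫ v = (yon S).map c ≫ v' ∨ ∃ u : (yon S).obj T' ⟶ U, u ≫ j = (yon S).map c ≫ v ≫ f) := by
  by_cases h : Points.ofPt (v ≫ f) t ∈ Set.range (Points.map j)
  · obtain ⟨T', c, l, h1, h2, h3⟩ := exists_lift_point j
      (repWith_mono open_le_etale hsq.1) (v ≫ f) t h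
    exact ⟨T', c, h1, h2, Or.inr ⟨l, h3⟩⟩
  let f₀ : (yon S).obj T₀ ⟶ W := e.hom ≫ f
  have hf₀ : RepWith @Etale f₀ := hsq.2.1 e.hom (repWith_of_isIso e.hom)
  obtain ⟨R, r₁, r₂, sq⟩ := exists_isPullback_yon f₀ f₀ hf₀.rep
  obtain ⟨δ, hδ⟩ := (yon S).map_surjective (sq.lift (𝟙 _) (𝟙 _) rfl)
  obtain ⟨a, ha⟩ := (yon S).map_surjective (v ≫ e.inv)
  obtain ⟨a', ha'⟩ := (yon S).map_surjective (v' ≫ e.inv)
  have hav : (yon S).map a ≫ e.hom = v := by rw [ha, Category.assoc, e.inv_hom_id, Category.comp_id]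
  have hav' : (yon S).map a' ≫ e.hom = v' := by rw [ha', Category.assoc, e.inv_hom_id, Category.comp_id]
  have hl0 : (yon S).map a ≫ f₀ = (yon S).map a' ≫ f₀ := by
    rw [← Category.assoc, ← Category.assoc, hav, hav', hvv]
  obtain ⟨l, hl⟩ := (yon S).map_surjective (sq.lift _ _ hl0)
  have hδ₁ : δ ≫ r₁ = 𝟙 T₀ := (yon S).map_injective (by
    rw [Functor.map_comp, hδ, sq.lift_fst, CategoryTheory.Functor.map_id])
  have hδet : RepWith @Etale ((yon S).map δ) := by
    refine (repWith_yon_map_iff @Etale δ).2 ?_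
    haveI : Etale r₁.left := etale_left (repWith_of_isPullback sq.flip hf₀)
    haveI : Etale (δ.left ≫ r₁.left) := by
      rw [← Over.comp_left, hδ₁]; dsimp; infer_instance
    exact Etale.of_comp δ.left r₁.left
  have hmem : Points.ofPt ((yon S).map l) t ∈ Set.range (Points.map ((yon S).map δ)) := by
    let K : Over S := Over.mk (T.left.fromSpecResidueField t ≫ T.hom)
    haveI : IsReduced K.left := inferInstanceAs (IsReduced (Spec (T.left.residueField t)))
    haveI : Subsingleton ↥K.left := inferInstanceAs (Subsingleton (PrimeSpectrum (T.left.residueField t)))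
    let ξ : K ⟶ T := Over.homMk (T.left.fromSpecResidueField t) rfl
    let k : K.left := IsLocalRing.closedPoint (T.left.residueField t)
    have hk : ξ.left k = t := Scheme.fromSpecResidueField_apply t _
    have e1 : (yon S).map ξ ≫ v = (yon S).map ξ ≫ v' := field_lift_eq hsq _ _
      (by rw [Category.assoc, Category.assoc, hvv]) k (by rw [Category.assoc, ofPt_yon_comp, hk]; exact h)
    have e2 : (yon S).map ξ ≫ (yon S).map a = (yon S).map ξ ≫ (yon S).map a' := by
      rw [ha, ha', ← Category.assoc, ← Category.assoc, e1]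
    have e3 : (yon S).map ξ ≫ (yon S).map l = ((yon S).map ξ ≫ (yon S).map a) ≫ (yon S).map δ := by
      refine sq.hom_ext ?_ ?_
      · rw [Category.assoc, Category.assoc, hl, sq.lift_fst, hδ, sq.lift_fst, Category.comp_id]
      · rw [Category.assoc, Category.assoc, hl, sq.lift_snd, hδ, sq.lift_snd, Category.comp_id, e2]
    refine ⟨Points.ofPt ((yon S).map ξ ≫ (yon S).map a) k, ?_⟩
    rw [Points.map_ofPt, ← e3, ofPt_yon_comp, hk]
  obtain ⟨T', c, m, h1, h2, h3⟩ := exists_lift_point ((yon S).map δ) hδet ((yon S).map l) t hmem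
  refine ⟨T', c, h1, h2, Or.inl ?_⟩
  have e4 : (yon S).map c ≫ (yon S).map a = m := by
    have := congrArg (· ≫ (yon S).map r₁) h3
    simp only [Category.assoc, hl, hδ, sq.lift_fst, Category.comp_id] at this
    exact this.symm
  have e5 : (yon S).map c ≫ (yon S).map a' = m := by
    have := congrArg (· ≫ (yon S).map r₂) h3
    simp only [Category.assoc, hl, hδ, sq.lift_snd, Category.comp_id] at this
    exact this.symm
  rw [← hav, ← hav', ← Category.assoc, ← Category.assoc, e4, e5]

end Sq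

section PW

variable {X : Space S}

/-- The points of an object etale over `X` with values in the small etale site. -/
def PW (W : EtSpOver X) : (EtOver X.obj)ᵒᵖ ⥤ Type (u + 1) where
  obj Z := { w : (yon S).obj Z.unop.obj.left ⟶ W.obj.left.obj // w ≫ W.obj.hom.hom = Z.unop.obj.hom }
  map {Z Z'} k := ↾fun w => ⟨(yon S).map k.unop.hom.left ≫ w.1, by
    rw [Category.assoc, w.2]; exact EtOver.w k.unop⟩
  map_id Z := by
    refine ConcreteCategory.hom_ext _ _ fun w => ?_
    exact Subtype.ext ((congrArg (· ≫ w.1) ((yon S).map_id _)).trans (Category.id_comp _))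
  map_comp {Z Z' Z''} g h := by
    refine ConcreteCategory.hom_ext _ _ fun w => ?_
    exact Subtype.ext ((congrArg (· ≫ w.1) ((yon S).map_comp _ _)).trans (Category.assoc _ _ _))

/-- Functoriality in the etale object. -/
def PWmap {W W' : EtSpOver X} (m : W ⟶ W') : PW W ⟶ PW W' where
  app Z := ↾fun w => ⟨w.1 ≫ m.hom.left.hom, by
    rw [Category.assoc]
    refine Eq.trans ?_ w.2
    exact congrArg (w.1 ≫ ·) (congrArg (·.hom) (Over.w m.hom))⟩
  naturality {Z Z'} k := by
    refine ConcreteCategory.hom_ext _ _ fun w => ?_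
    exact Subtype.ext (Category.assoc _ _ _)

theorem pw_ext {W : EtSpOver X} {Z : (EtOver X.obj)ᵒᵖ} {a b : (PW W).obj Z} (h : a.1 = b.1) : a = b :=
  Subtype.ext h

/-- Etale schemes over an object give objects of the site over it. -/
theorem exists_etover {Z : EtOver X.obj} {T' : Over S} (c : T' ⟶ Z.obj.left) (hc : Etale c.left) :
    ∃ (Z' : EtOver X.obj) (k : Z' ⟶ Z) (e : Z'.obj.left = T'), k.hom.left = eqToHom e ≫ c := by
  refine ⟨EtOver.mk ((yon S).map c ≫ Z.obj.hom)
    ((repWith_isMultiplicative (S := S) @Etale).comp_mem _ _ ((repWith_yon_map_iff @Etale _).2 hc) Z.property),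
    EtOver.homMk c rfl, rfl, ?_⟩
  exact (Category.id_comp c).symm

variable {W U V : EtSpOver X} (j : U ⟶ W) (f : V ⟶ W) (hsq : IsElemDistSq j.hom.left.hom f.hom.left.hom)
  {T₀ : Over S} (e : (yon S).obj T₀ ≅ V.obj.left.obj)

include hsq

theorem pw_injective_open (Z : (EtOver X.obj)ᵒᵖ) : Function.Injective ((PWmap j).app Z) := fun a b h => by
  haveI : Mono j.hom.left.hom := mono_of_openImmersion hsq.1
  exact pw_ext ((cancel_mono j.hom.left.hom).1 (congrArg Subtype.val h))

include e in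
theorem pw_lift (Z : EtOver X.obj) (w : (PW W).obj (op Z)) (t : Z.obj.left.left) :
    ∃ (Z' : EtOver X.obj) (k : Z' ⟶ Z), t ∈ Set.range k.hom.left.left ∧
      ((∃ u, (PWmap j).app (op Z') u = (PW W).map k.op w) ∨ ∃ v, (PWmap f).app (op Z') v = (PW W).map k.op w) := by
  have key : ∀ {G : EtSpOver X} (g : G ⟶ W) {T' : Over S} (c : T' ⟶ Z.obj.left) (l : (yon S).obj T' ⟶ G.obj.left.obj),
      Etale c.left → t ∈ Set.range c.left → l ≫ g.hom.left.hom = (yon S).map c ≫ w.1 →
      ∃ (Z' : EtOver X.obj) (k : Z' ⟶ Z), t ∈ Set.range k.hom.left.left ∧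
        ∃ u, (PWmap g).app (op Z') u = (PW W).map k.op w := by
    intro G g T' c l hc ht hl
    obtain ⟨Z', k, rfl, hk⟩ := exists_etover c hc
    rw [eqToHom_refl, Category.id_comp] at hk
    subst hk
    refine ⟨Z', k, ht, ⟨l, ?_⟩, Subtype.ext hl⟩
    have := congrArg (· ≫ W.obj.hom.hom) hl
    simp only [Category.assoc] at this
    rw [w.2, show g.hom.left.hom ≫ W.obj.hom.hom = G.obj.hom.hom from congrArg (·.hom) (Over.w g.hom)] at this
    exact this.trans (EtOver.w k)
  rcases mem_or_mem_range hsq (Points.ofPt w.1 t) with h | h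
  · obtain ⟨T', c, l, h1, h2, h3⟩ := exists_lift_point j.hom.left.hom
      (repWith_mono open_le_etale hsq.1) w.1 t h
    obtain ⟨Z', k, hk1, hk2⟩ := key j c l h1 h2 h3
    exact ⟨Z', k, hk1, Or.inl hk2⟩
  · have hf₀ : RepWith @Etale (e.hom ≫ f.hom.left.hom) := hsq.2.1 e.hom (repWith_of_isIso e.hom)
    have h' : Points.ofPt w.1 t ∈ Set.range (Points.map (e.hom ≫ f.hom.left.hom)) := by
      obtain ⟨x, hx⟩ := h
      refine ⟨Points.map e.inv x, ?_⟩
      rw [← Points.map_comp, e.inv_hom_id_assoc, hx]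
    obtain ⟨T', c, l, h1, h2, h3⟩ := exists_lift_point _ hf₀ w.1 t h'
    obtain ⟨Z', k, hk1, hk2⟩ := key f c (l ≫ e.hom) h1 h2 (by rw [Category.assoc]; exact h3)
    exact ⟨Z', k, hk1, Or.inr hk2⟩

include e in
theorem pw_agree (Z : EtOver X.obj) (v v' : (PW V).obj (op Z))
    (h : (PWmap f).app (op Z) v = (PWmap f).app (op Z) v') (t : Z.obj.left.left) :
    ∃ (Z' : EtOver X.obj) (k : Z' ⟶ Z), t ∈ Set.range k.hom.left.left ∧
      ((PW V).map k.op v = (PW V).map k.op v' ∨
        ∃ u, (PWmap j).app (op Z') u = (PW W).map k.op ((PWmap f).app (op Z) v)) := by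
  obtain ⟨T', c, hc, ht, hh⟩ := exists_agree_point hsq e v.1 v'.1 (congrArg Subtype.val h) t
  obtain ⟨Z', k, rfl, hk⟩ := exists_etover c hc
  rw [eqToHom_refl, Category.id_comp] at hk
  subst hk
  refine ⟨Z', k, ht, hh.imp (fun h' => pw_ext h') fun ⟨u, hu⟩ => ⟨⟨u, ?_⟩, pw_ext hu⟩⟩
  have := congrArg (· ≫ W.obj.hom.hom) hu
  simp only [Category.assoc] at this
  rw [show j.hom.left.hom ≫ W.obj.hom.hom = U.obj.hom.hom from congrArg (·.hom) (Over.w j.hom),
    show f.hom.left.hom ≫ W.obj.hom.hom = V.obj.hom.hom from congrArg (·.hom) (Over.w f.hom), v.2] at this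
  exact this.trans (EtOver.w k)

omit hsq in
theorem pw_pullback {UV : EtSpOver X} (p : UV ⟶ U) (q : UV ⟶ V)
    (hpb : IsPullback p.hom.left.hom q.hom.left.hom j.hom.left.hom f.hom.left.hom) (Z : (EtOver X.obj)ᵒᵖ)
    (u : (PW U).obj Z) (v : (PW V).obj Z) (h : (PWmap j).app Z u = (PWmap f).app Z v) :
    ∃ x, (PWmap p).app Z x = u ∧ (PWmap q).app Z x = v := by
  have h' : u.1 ≫ j.hom.left.hom = v.1 ≫ f.hom.left.hom := congrArg Subtype.val h
  refine ⟨⟨hpb.lift u.1 v.1 h', ?_⟩, pw_ext (hpb.lift_fst _ _ _), pw_ext (hpb.lift_snd _ _ _)⟩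
  rw [show UV.obj.hom.hom = p.hom.left.hom ≫ U.obj.hom.hom from (congrArg (·.hom) (Over.w p.hom)).symm,
    ← Category.assoc, hpb.lift_fst]
  exact u.2

omit hsq in
theorem pw_comm {UV : EtSpOver X} (p : UV ⟶ U) (q : UV ⟶ V)
    (hpb : IsPullback p.hom.left.hom q.hom.left.hom j.hom.left.hom f.hom.left.hom) :
    PWmap p ≫ PWmap j = PWmap q ≫ PWmap f := by
  refine NatTrans.ext (funext fun Z => ConcreteCategory.hom_ext _ _ fun x => ?_)
  refine pw_ext ?_
  change (x.1 ≫ p.hom.left.hom) ≫ j.hom.left.hom = (x.1 ≫ q.hom.left.hom) ≫ f.hom.left.hom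
  rw [Category.assoc, Category.assoc, hpb.w]

end PW

end Groth.Agent.AlgSpPerfLib
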