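import Groth.Agent.AlgSpPerfLib.ModNerve
import Groth.Agent.AlgSpPerfLib.Core
import Groth.Agent.AlgSpCohColimLib.Colim
import Groth.Agent.AlgSpAffLib.Criterion
import Mathlib.Algebra.Homology.DerivedCategory.Ext.EnoughInjectives

/-!
# Vanishing of `Ext(O, M)` forces the vanishing of the cohomology of `M`
-/

set_option autoImplicit false
set_option linter.unusedSectionVars false
set_option linter.style.haveILetI false
set_option backward.isDefEq.respectTransparency false
set_option backward.isDefEq.respectTransparency.types false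
set_option maxHeartbeats 2000000
set_option synthInstance.maxHeartbeats 400000

universe u

open CategoryTheory CategoryTheory.Limits CategoryTheory.Abelian AlgebraicGeometry Opposite AlgSp
open Groth.Agent Groth.Agent.AlgSpRlimLib AlgSpCohColim

noncomputable section

attribute [local instance] HasDerivedCategory.standard

namespace Groth.Agent.AlgSpPerfLib

variable {S : Scheme.{u}} {X : Sp S}

theorem qAcyclic_injective_mod (I : ModEt X) [Injective I] : QAcyclic ((toAbEt X).obj I) :=
  fun _ p hp _ _ π _ _ _ n => hExact_comp_injective (EtOver.ofChart p hp) I π n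

section Chart

variable {U : Over S} (p : (yon S).obj U ⟶ X) (hp : RepWith @Etale p)

theorem gExact_injective_mod (I : ModEt X) [Injective I] : GExact p hp ((toAbEt X).obj I) := fun n =>
  haveI := injective_val I
  hExact_star_injective_mod p hp I.val n

variable (hs : RepWith @Surjective p) (hX : IsAlgSpace X) (hqs : IsQuasiSeparatedSp X) [QuasiSeparatedSpace ↥S]
  [IsAffine U.left]

include hp hs hX hqs in
/-- Injective modules have no higher cohomology. -/
theorem subsingleton_H_injective_mod (I : ModEt X) [Injective I] (q : ℕ) :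
    Subsingleton (Ext.{u + 1} (constX X) ((toAbEt X).obj I) (q + 1)) :=
  subsingleton_ext_succ p hp hs hX hqs q _ (qAcyclic_injective_mod I) (gExact_injective_mod p hp I)

theorem fam_of_unit {M : ModEt X} (g : unitModEt X ⟶ M) :
    ∃ x : ModEtQc.Fam ((toAbEt X).obj M), ∀ E, x.1 E = g.val.app (op E) (1 : (OEtRing X).obj.obj (op E)) :=
  ⟨⟨fun E => g.val.app (op E) (1 : (OEtRing X).obj.obj (op E)), fun {E E'} k =>
    ((M.unitHomEquiv g).2 k.op)⟩, fun _ => rfl⟩

theorem exists_unit_of_fam {M : ModEt X} (x : ModEtQc.Fam ((toAbEt X).obj M)) :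
    ∃ g : unitModEt X ⟶ M, ∀ E, g.val.app (op E) (1 : (OEtRing X).obj.obj (op E)) = x.1 E := by
  let s : M.sections := ⟨fun E => x.1 E.unop, fun {E E'} k => x.2 k.unop⟩
  refine ⟨M.unitHomEquiv.symm s, fun E => ?_⟩
  exact congrArg (fun t : M.sections => t.1 (op E)) (M.unitHomEquiv.apply_symm_apply s)

include hp hs hX hqs in
theorem subsingleton_H_of_ext [EnoughInjectives (ModEt X)] [HasExt.{u + 1} (ModEt X)] :
    ∀ (q : ℕ) (N : ModEt X), Subsingleton (Ext.{u + 1} (unitModEt X) N (q + 1)) →
      Subsingleton (Ext.{u + 1} (constX X) ((toAbEt X).obj N) (q + 1))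
  | 0, N, h => by
    let T : ShortComplex (ModEt X) := ShortComplex.mk (Injective.ι N) (cokernel.π (Injective.ι N)) (cokernel.condition _)
    have hT : T.ShortExact :=
      ShortComplex.ShortExact.mk' (ShortComplex.exact_cokernel _) inferInstance inferInstance
    haveI : Injective T.X₂ := inferInstanceAs (Injective (Injective.under N))
    haveI : Subsingleton (Ext.{u + 1} (constX X) (T.map (toAbEt X)).X₂ 1) :=
      subsingleton_H_injective_mod p hp hs hX hqs T.X₂ 0
    refine CohLib.subsingleton_ext_one_of_lift (shortExact_toAbEt hT) fun s => ?_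
    obtain ⟨g, hg⟩ := exists_unit_of_fam (homFam _ s)
    haveI : Subsingleton (Ext.{u + 1} (unitModEt X) T.X₁ 1) := h
    obtain ⟨l, hl⟩ := Ext.covariant_sequence_exact₃ (unitModEt X) hT (Ext.mk₀ g) rfl (Subsingleton.elim _ _)
    have hl' : Ext.addEquiv₀ l ≫ T.g = g := by
      apply (Ext.mk₀_bijective _ _).1
      rw [← Ext.mk₀_comp_mk₀, Ext.mk₀_addEquiv₀_apply, hl]
    obtain ⟨x, hx⟩ := fam_of_unit (Ext.addEquiv₀ l)
    refine ⟨(homFam _).symm x, (homFam _).injective (Subtype.ext (funext fun E => ?_))⟩
    refine (homFam_comp _ _ E).trans ?_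
    rw [AddEquiv.apply_symm_apply]
    refine (congrArg _ (hx E)).trans ?_
    refine Eq.trans ?_ (hg E)
    exact congrArg (fun φ : unitModEt X ⟶ T.X₃ => φ.val.app (op E) (1 : (OEtRing X).obj.obj (op E))) hl'
  | q + 1, N, h => by
    let T : ShortComplex (ModEt X) := ShortComplex.mk (Injective.ι N) (cokernel.π (Injective.ι N)) (cokernel.condition _)
    have hT : T.ShortExact :=
      ShortComplex.ShortExact.mk' (ShortComplex.exact_cokernel _) inferInstance inferInstance
    haveI : Injective T.X₂ := inferInstanceAs (Injective (Injective.under N))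
    haveI : Subsingleton (Ext.{u + 1} (unitModEt X) T.X₁ (q + 2)) := h
    haveI : Subsingleton (Ext.{u + 1} (unitModEt X) T.X₂ (q + 1)) := Ext.subsingleton_of_injective _ _ _
    have h3 : Subsingleton (Ext.{u + 1} (unitModEt X) T.X₃ (q + 1)) := by
      refine subsingleton_of_forall_eq 0 fun x => ?_
      obtain ⟨y, hy⟩ := Ext.covariant_sequence_exact₃ (unitModEt X) hT x rfl (Subsingleton.elim _ _)
      rw [← hy, Subsingleton.elim y 0, Ext.zero_comp]
    haveI : Subsingleton (Ext.{u + 1} (constX X) (T.map (toAbEt X)).X₂ (q + 1 + 1)) :=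
      subsingleton_H_injective_mod p hp hs hX hqs T.X₂ (q + 1)
    haveI : Subsingleton (Ext.{u + 1} (constX X) (T.map (toAbEt X)).X₃ (q + 1)) := subsingleton_H_of_ext q T.X₃ h3
    exact CohLib.subsingleton_ext_of_shift (shortExact_toAbEt hT)

end Chart

end Groth.Agent.AlgSpPerfLib
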